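import Cfsg.Agent.Lib.GTwoMinDeg.NonThreeTrace

/-!
In degree `q³` the vector fixed by the radical of the long root parabolic is fixed by that parabolic.
-/

set_option autoImplicit false
set_option linter.unusedSectionVars false

namespace CfsgLib.GTwoMinDeg

open Module Cfsg.Lie

variable {F : Type*} [Field F] [Fintype F] {V : Type*} [AddCommGroup V] [Module ℂ V]
  [FiniteDimensional ℂ V] {ρ : Representation ℂ (Grp F) V} {ψ : AddChar F ℂ}

/-- The elements fixing an operator on both sides. -/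
def fixBoth (ρ : Representation ℂ (Grp F) V) (e : Module.End ℂ V) : Subgroup (Grp F) where
  carrier := {g | ρ g * e = e ∧ e * ρ g = e}
  one_mem' := ⟨by rw [map_one, one_mul], by rw [map_one, mul_one]⟩
  mul_mem' {a b} ha hb :=
    ⟨by rw [map_mul, mul_assoc, hb.1, ha.1], by rw [map_mul, ← mul_assoc, ha.2, hb.2]⟩
  inv_mem' {a} ha :=
    ⟨by conv_lhs => rw [← ha.1, ← mul_assoc, rho_inv_mul, one_mul],
      by conv_lhs => rw [← ha.2, mul_assoc, rho_mul_inv, mul_one]⟩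

/-- Commuting idempotents of the same dimension, one absorbing the other, are equal. -/
theorem eq_of_absorb {a b : Module.End ℂ V} (ha : IsIdempotentElem a) (hb : IsIdempotentElem b)
    (h : a * b = b) (hc : Commute a b) (hd : dm a = dm b) : a = b := by
  have hi : IsIdempotentElem (a - b) := by
    show (a - b) * (a - b) = a - b
    rw [mul_sub, sub_mul, sub_mul, ha.eq, hb.eq, ← hc.eq, h]
    abel
  have h0 : ((dm (a - b) : ℕ) : ℂ) = 0 := by
    rw [← tr_eq_dm hi, tr, map_sub]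
    have h1 := tr_eq_dm ha
    have h2 := tr_eq_dm hb
    simp only [tr] at h1 h2
    rw [h1, h2, hd, sub_self]
  exact sub_eq_zero.1 (dm_eq_zero.1 (by exact_mod_cast h0))

theorem mul4_absorb {R : Type*} [Monoid R] {a b c d : R} (ha : IsIdempotentElem a) (hb : IsIdempotentElem b)
    (hc : IsIdempotentElem c) (hd : IsIdempotentElem d) (ba : Commute b a) (ca : Commute c a) (cb : Commute c b)
    (da : Commute d a) (db : Commute d b) (dc : Commute d c) :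
    a * (a * (b * (c * d))) = a * (b * (c * d)) ∧ b * (a * (b * (c * d))) = a * (b * (c * d)) ∧
      c * (a * (b * (c * d))) = a * (b * (c * d)) ∧ d * (a * (b * (c * d))) = a * (b * (c * d)) := by
  refine ⟨?_, ?_, ?_, ?_⟩
  · rw [← mul_assoc, ha.eq]
  · rw [ba.left_comm, ← mul_assoc b b, hb.eq]
  · rw [ca.left_comm, cb.left_comm, ← mul_assoc c c, hc.eq]
  · rw [da.left_comm, db.left_comm, dc.left_comm, hd.eq]

theorem Phi_zero_eq : Phi ρ ψ 0 0 0 0 = qp ρ ψ 6 0 * (qp ρ ψ 8 0 * (qp ρ ψ 9 0 * qp ρ ψ 10 0)) := rfl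

namespace Ctx

variable (h : Ctx ρ ψ)
include h

theorem eig_of_absorb {r : Fin 12} {b : F} {E : Module.End ℂ V} (hE : Good ρ ψ E)
    (he : qp ρ ψ r b * E = E) : Eig ρ ψ (x r) b E := fun t => by
  rw [← he, qp, mul_assoc, hE.left, ← mul_assoc, rho_mul_proj ρ ψ (x r) b t, smul_mul_assoc]

theorem commute_rho_good {r : Fin 12} (hr : inQ r) (t : F) {E : Module.End ℂ V} (hE : Good ρ ψ E) :
    Commute (ρ (x r t)) E := by
  have h1 : ρ (x r t) = ∑ b, ψ (b * t) • P ρ ψ r b := by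
    conv_lhs => rw [← mul_one (ρ (x r t)), ← sum_proj ρ ψ h.prim (x r), Finset.mul_sum]
    exact Finset.sum_congr rfl fun b _ => rho_mul_proj ρ ψ (x r) b t
  rw [h1]
  exact Commute.sum_left _ _ _ fun b _ => (h.comm_P hr b hE).smul_left _

theorem absorb_Phi0 {r : Fin 12} (hr : inQ r) :
    qp ρ ψ r 0 * Phi ρ ψ 0 0 0 0 = Phi ρ ψ 0 0 0 0 := by
  obtain ⟨a1, a2, a3, a4⟩ := mul4_absorb (a := qp ρ ψ 6 0) (b := qp ρ ψ 8 0) (c := qp ρ ψ 9 0)
    (d := qp ρ ψ 10 0) (h.idem_qp inQ6 0) (h.idem_qp inQ8 0) (h.idem_qp inQ9 0) (h.idem_qp inQ10 0)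
    (qp_comm inQ8 inQ6 0 0) (qp_comm inQ9 inQ6 0 0) (qp_comm inQ9 inQ8 0 0) (qp_comm inQ10 inQ6 0 0)
    (qp_comm inQ10 inQ8 0 0) (qp_comm inQ10 inQ9 0 0)
  rcases hr with rfl | rfl | rfl | rfl
  exacts [a1, a2, a3, a4]

/-- The radical fixes the zero weight space. -/
theorem mem_fix_rad {r : Fin 12} (hr : inQ r ∨ r = 11) (t : F) :
    x r t ∈ fixBoth ρ (Phi ρ ψ 0 0 0 0) := by
  have hE := h.good_Phi 0 0 0 0
  have h1 : ρ (x r t) * Phi ρ ψ 0 0 0 0 = Phi ρ ψ 0 0 0 0 := by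
    rcases hr with hr | rfl
    · rw [h.eig_of_absorb hE (h.absorb_Phi0 hr) t, zero_mul, AddChar.map_zero_eq_one, one_smul]
    · rw [← hE.left, ← mul_assoc, rho11_e0]
  refine ⟨h1, ?_⟩
  rcases hr with hr | rfl
  · rw [← (h.commute_rho_good hr t hE).eq, h1]
  · conv_lhs => rw [← h.good_right hE, mul_assoc, ← (rho_comm_e0 (chkC_11 11 (by simp)).1 t).eq, rho11_e0,
      h.good_right hE]

/-- An element normalizing the radical fixes the zero weight space under conjugation. -/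
theorem cj_Phi0 {g : Grp F} (he : cj ρ g (e0 ρ ψ) = e0 ρ ψ)
    (hg : ∀ r, inQ r → ∀ t, g * x r t * g⁻¹ ∈ fixBoth ρ (Phi ρ ψ 0 0 0 0)) :
    cj ρ g (Phi ρ ψ 0 0 0 0) = Phi ρ ψ 0 0 0 0 := by
  set e := Phi ρ ψ 0 0 0 0 with hedef
  have hE : Good ρ ψ e := h.good_Phi 0 0 0 0
  have h0 : ∀ r, inQ r → cj ρ g (qp ρ ψ r 0) * e = e ∧ Commute (cj ρ g (qp ρ ψ r 0)) e := fun r hr => by
    have hsum : cj ρ g (qp ρ ψ r 0) =
        ((Fintype.card F : ℂ)⁻¹ • ∑ t, ψ (-((0 : F) * t)) • ρ (g * x r t * g⁻¹)) * e0 ρ ψ := by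
      rw [cj_mul, he, P, proj, cj_smul, cj_sum]
      simp only [cj_smul, cj_rho]
    constructor
    · rw [hsum, mul_assoc, hE.left, smul_mul_assoc, Finset.sum_mul]
      simp only [smul_mul_assoc, (hg r hr _).1, zero_mul, neg_zero, AddChar.map_zero_eq_one, one_smul,
        Finset.sum_const, Finset.card_univ]
      rw [← Nat.cast_smul_eq_nsmul ℂ, smul_smul, inv_mul_cancel₀ (Nat.cast_ne_zero.2 Fintype.card_ne_zero),
        one_smul]
    · rw [hsum]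
      refine Commute.mul_left (Commute.smul_left (Commute.sum_left _ _ _ fun t _ => Commute.smul_left ?_ _) _) ?_
      · exact (hg r hr t).1.trans (hg r hr t).2.symm
      · show e0 ρ ψ * e = e * e0 ρ ψ
        rw [hE.left, h.good_right hE]
  refine eq_of_absorb (isIdempotentElem_cj ρ g hE.idem) hE.idem ?_ ?_ (dm_cj ρ g hE.idem)
  · conv_lhs => rw [hedef, Phi_zero_eq]
    simp only [cj_mul ρ g (qp ρ ψ 6 0), cj_mul ρ g (qp ρ ψ 8 0), cj_mul ρ g (qp ρ ψ 9 0)]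
    rw [← Phi_zero_eq, ← hedef, mul_assoc, mul_assoc, mul_assoc, (h0 10 inQ10).1, (h0 9 inQ9).1, (h0 8 inQ8).1,
      (h0 6 inQ6).1]
  · conv => arg 1; rw [hedef, Phi_zero_eq, cj_mul ρ g (qp ρ ψ 6 0), cj_mul ρ g (qp ρ ψ 8 0), cj_mul ρ g (qp ρ ψ 9 0)]
    exact (h0 6 inQ6).2.mul_left ((h0 8 inQ8).2.mul_left ((h0 9 inQ9).2.mul_left (h0 10 inQ10).2))

theorem cj_Phi0_seven (s : F) : cj ρ (x 7 s) (Phi ρ ψ 0 0 0 0) = Phi ρ ψ 0 0 0 0 := by
  refine h.cj_Phi0 (cj_x_e0 (chkC_11 7 (by simp)).1 s) fun r hr t => ?_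
  rcases hr with rfl | rfl | rfl | rfl
  · rw [conj7_6]
    exact mul_mem (mul_mem (mul_mem (mul_mem (h.mem_fix_rad (Or.inl inQ6) _) (h.mem_fix_rad (Or.inl inQ8) _))
      (h.mem_fix_rad (Or.inl inQ9) _)) (h.mem_fix_rad (Or.inl inQ10) _)) (h.mem_fix_rad (Or.inr rfl) _)
  · rw [conj7_8]
    exact mul_mem (mul_mem (mul_mem (h.mem_fix_rad (Or.inl inQ8) _) (h.mem_fix_rad (Or.inl inQ9) _))
      (h.mem_fix_rad (Or.inl inQ10) _)) (h.mem_fix_rad (Or.inr rfl) _)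
  · rw [conj7_9]
    exact mul_mem (h.mem_fix_rad (Or.inl inQ9) _) (h.mem_fix_rad (Or.inl inQ10) _)
  · rw [x_comm 7 10 chk_facts.2.2.2.2.2.2.2.1, mul_inv_cancel_right]
    exact h.mem_fix_rad (Or.inl inQ10) _

theorem cj_Phi0_four (s : F) : cj ρ (x 4 s) (Phi ρ ψ 0 0 0 0) = Phi ρ ψ 0 0 0 0 := by
  refine h.cj_Phi0 (cj_x_e0 (chkC_11 4 (by simp)).1 s) fun r hr t => ?_
  rcases hr with rfl | rfl | rfl | rfl
  · rw [x_comm 4 6 (by decide +kernel), mul_inv_cancel_right]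
    exact h.mem_fix_rad (Or.inl inQ6) _
  · rw [conj4_8]
    exact mul_mem (h.mem_fix_rad (Or.inl inQ8) _) (h.mem_fix_rad (Or.inl inQ6) _)
  · rw [conj4_9]
    exact mul_mem (mul_mem (mul_mem (h.mem_fix_rad (Or.inl inQ9) _) (h.mem_fix_rad (Or.inl inQ8) _))
      (h.mem_fix_rad (Or.inl inQ6) _)) (h.mem_fix_rad (Or.inr rfl) _)
  · rw [conj4_10]
    exact mul_mem (mul_mem (mul_mem (mul_mem (h.mem_fix_rad (Or.inl inQ10) _) (h.mem_fix_rad (Or.inl inQ9) _))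
      (h.mem_fix_rad (Or.inl inQ8) _)) (h.mem_fix_rad (Or.inl inQ6) _)) (h.mem_fix_rad (Or.inr rfl) _)

theorem cj_Phi0_tor (a d : Fˣ) : cj ρ (tor a d) (Phi ρ ψ 0 0 0 0) = Phi ρ ψ 0 0 0 0 := by
  rw [h.cj_tor_Phi]; simp only [zero_div]

theorem rho_Phi0_scalar (h1 : dm (Phi ρ ψ 0 0 0 0) = 1) {g : Grp F}
    (hg : cj ρ g (Phi ρ ψ 0 0 0 0) = Phi ρ ψ 0 0 0 0) :
    ρ g * Phi ρ ψ 0 0 0 0 = tr (ρ g * Phi ρ ψ 0 0 0 0) • Phi ρ ψ 0 0 0 0 := by
  have hc := commute_rho_of_cj ρ hg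
  have hi := (h.good_Phi 0 0 0 0).idem
  have := sandwich hi h1 (ρ g)
  rw [← hc.eq, mul_assoc, hi.eq] at this
  exact this

theorem trace_scalar (h3 : (3 : F) ≠ 0) {a : Fˣ} (ha : (a : F) ^ 2 ≠ 1) :
    tr (ρ (tor a a)) = tr (ρ (tor a a) * Phi ρ ψ 0 0 0 0) := by
  have ha1 : (a : F) ≠ 1 := fun e => ha (by rw [e, one_pow])
  have w11 : wt 11 a a ≠ (1 : F) := by rw [wt11, ← sq]; exact ha
  have w10 : wt 10 a a ≠ (1 : F) := by rw [wt10, sq, mul_div_assoc, div_self a.ne_zero, mul_one]; exact ha1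
  have w9 : wt 9 a a ≠ (1 : F) := by rw [wt9]; exact ha1
  have w8 : wt 8 a a ≠ (1 : F) := by rw [wt8]; exact ha1
  have w6 : wt 6 a a ≠ (1 : F) := by rw [wt6, sq, mul_div_assoc, div_self a.ne_zero, mul_one]; exact ha1
  set g := tor a a
  have hcq : ∀ r b, b = 0 → cj ρ g (qp ρ ψ r b) = qp ρ ψ r b := fun r b hb => by
    subst hb; rw [h.cj_tor_qp, zero_div]
  have g10 := h.good_qp (r := 10) inQ10 0
  have g9 := h.good_mul inQ9 0 g10
  have g8 := h.good_mul inQ8 0 g9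
  rw [← mul_one (ρ g), tr_split_zero (ρ := ρ) (ψ := ψ) h.prim (y := x 11) IsIdempotentElem.one
    (cj_of_commute ρ (Commute.one_right _)) (fun _ => Commute.one_right _) (wt_ne_zero 11 a a) w11
    (tor_conj 11 a a)]
  simp only [mul_one]
  rw [tr_split_zero (ρ := ρ) (ψ := ψ) h.prim (y := x 10) h.idem_e0 (by rw [cj_tor_P_zero])
    (fun b => h.comm_P inQ10 b h.good_e0) (wt_ne_zero 10 a a) w10 (tor_conj 10 a a)]
  show tr (ρ g * qp ρ ψ 10 0) = _
  rw [tr_split_zero (ρ := ρ) (ψ := ψ) h.prim (y := x 9) g10.idem (hcq 10 0 rfl)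
    (fun b => h.comm_P inQ9 b g10) (wt_ne_zero 9 a a) w9 (tor_conj 9 a a), ← h.qp_mul 0 g10,
    tr_split_zero (ρ := ρ) (ψ := ψ) h.prim (y := x 8) g9.idem (by simp only [cj_mul, cj_tor_P_zero, g])
    (fun b => h.comm_P inQ8 b g9) (wt_ne_zero 8 a a) w8 (tor_conj 8 a a), ← h.qp_mul 0 g9,
    tr_split_zero (ρ := ρ) (ψ := ψ) h.prim (y := x 6) g8.idem
    (by simp only [cj_mul, cj_tor_P_zero, g])
    (fun b => h.comm_P inQ6 b g8) (wt_ne_zero 6 a a) w6 (tor_conj 6 a a), ← h.qp_mul 0 g8]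
  rfl

theorem trace_one (h3 : (3 : F) ≠ 0) (hs : Sharp ρ ψ) {a : Fˣ} (ha : (a : F) ^ 2 ≠ 1) :
    tr (ρ (tor a 1)) = tr (ρ (tor a 1) * Phi ρ ψ 0 0 0 0) := by
  classical
  have ha1 : (a : F) ≠ 1 := fun e => ha (by rw [e, one_pow])
  have w11 : wt 11 a 1 ≠ (1 : F) := by simpa [wt11] using ha1
  have w10 : wt 10 a 1 ≠ (1 : F) := by simpa [wt10] using ha
  have w9 : wt 9 a 1 ≠ (1 : F) := by rw [wt9]; exact ha1
  have w6 : wt 6 a 1 ≠ (1 : F) := by simpa [wt6] using ha1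
  set g := tor a 1
  have hcq : ∀ r b, b = 0 → cj ρ g (qp ρ ψ r b) = qp ρ ψ r b := fun r b hb => by
    subst hb; rw [h.cj_tor_qp, zero_div]
  have g10 := h.good_qp (r := 10) inQ10 0
  have g9 := h.good_mul inQ9 0 g10
  have g6 := h.good_mul inQ6 0 g9
  rw [← mul_one (ρ g), tr_split_zero (ρ := ρ) (ψ := ψ) h.prim (y := x 11) IsIdempotentElem.one
    (cj_of_commute ρ (Commute.one_right _)) (fun _ => Commute.one_right _) (wt_ne_zero 11 a 1) w11
    (tor_conj 11 a 1)]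
  simp only [mul_one]
  rw [tr_split_zero (ρ := ρ) (ψ := ψ) h.prim (y := x 10) h.idem_e0 (by rw [cj_tor_P_zero])
    (fun b => h.comm_P inQ10 b h.good_e0) (wt_ne_zero 10 a 1) w10 (tor_conj 10 a 1)]
  show tr (ρ g * qp ρ ψ 10 0) = _
  rw [tr_split_zero (ρ := ρ) (ψ := ψ) h.prim (y := x 9) g10.idem (hcq 10 0 rfl)
    (fun b => h.comm_P inQ9 b g10) (wt_ne_zero 9 a 1) w9 (tor_conj 9 a 1), ← h.qp_mul 0 g10,
    tr_split_zero (ρ := ρ) (ψ := ψ) h.prim (y := x 6) g9.idem (by simp only [cj_mul, cj_tor_P_zero, g])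
    (fun b => h.comm_P inQ6 b g9) (wt_ne_zero 6 a 1) w6 (tor_conj 6 a 1), ← h.qp_mul 0 g9,
    tr_split (ρ := ρ) h.prim (x 8)]
  have hre : ∀ v, proj ρ ψ (x 8) v * (qp ρ ψ 6 0 * (qp ρ ψ 9 0 * qp ρ ψ 10 0)) = Phi ρ ψ 0 0 v 0 := fun v => by
    rw [show proj ρ ψ (x 8) v = P ρ ψ 8 v from rfl, ← h.qp_mul v g6, ← mul_assoc,
      (qp_comm inQ8 inQ6 v 0).eq, mul_assoc]
    rfl
  simp only [hre]
  rw [Finset.sum_eq_single (0 : F) _ fun e => absurd (Finset.mem_univ _) e]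
  intro v _ hv
  rw [dm_eq_zero.1 (hs.vanish 0 v 0 (Or.inr hv)), mul_zero, tr, map_zero]

/-- The Borel subgroup and the Weyl element of the short root fix the zero weight space. -/
theorem fixes_parabolic (h3 : (3 : F) ≠ 0) (hq : 4 < Fintype.card F) (hs : Sharp ρ ψ)
    (h1 : dm (Phi ρ ψ 0 0 0 0) = 1) :
    (∀ t, x 7 t ∈ fixBoth ρ (Phi ρ ψ 0 0 0 0)) ∧ (∀ a d, tor a d ∈ fixBoth ρ (Phi ρ ψ 0 0 0 0)) ∧
      nn 0 ∈ fixBoth ρ (Phi ρ ψ 0 0 0 0) := by
  classical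
  set e := Phi ρ ψ 0 0 0 0 with he
  have hi : IsIdempotentElem e := (h.good_Phi 0 0 0 0).idem
  have hne : e ≠ 0 := dm_pos.1 (by omega)
  let N : Subgroup (Grp F) :=
    { carrier := {g | cj ρ g e = e}
      one_mem' := cj_one ρ e
      mul_mem' := fun {a b} ha hb => by
        show cj ρ (a * b) e = e
        rw [← cj_cj, show cj ρ b e = e from hb, show cj ρ a e = e from ha]
      inv_mem' := fun {a} ha => by
        show cj ρ a⁻¹ e = e
        conv_lhs => rw [← (show cj ρ a e = e from ha), cj_cj, inv_mul_cancel, cj_one] }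
  let lam : Grp F → ℂ := fun g => tr (ρ g * e)
  have hsc : ∀ g ∈ N, ρ g * e = lam g • e := fun g hg => h.rho_Phi0_scalar h1 hg
  have hmul : ∀ g ∈ N, ∀ g' ∈ N, lam (g * g') = lam g * lam g' := by
    intro g hg g' hg'
    refine smul_left_injective ℂ hne ?_
    show lam (g * g') • e = (lam g * lam g') • e
    rw [← hsc _ (mul_mem hg hg'), map_mul, mul_assoc, hsc g' hg', mul_smul_comm, hsc g hg, smul_smul,
      mul_comm (lam g')]
  have hone : lam 1 = 1 := by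
    show tr (ρ 1 * e) = 1
    rw [map_one, one_mul, tr_eq_dm hi, h1, Nat.cast_one]
  have hfix : ∀ g ∈ N, lam g = 1 → g ∈ fixBoth ρ e := fun g hg hl => by
    have h2 : ρ g * e = e := by rw [hsc g hg, hl, one_smul]
    exact ⟨h2, by rw [← (commute_rho_of_cj ρ (show cj ρ g e = e from hg)).eq]; exact h2⟩
  have hTN : ∀ a d, tor a d ∈ N := fun a d => h.cj_Phi0_tor a d
  obtain ⟨g, hg2, -⟩ := exists_unit_pow_ne hq
  have hg1 : (g : F) ≠ 1 := fun e => hg2 (by rw [e, one_pow])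
  have hU : ∀ (r : Fin 12) (a d : Fˣ), (∀ s, x r s ∈ N) → wt r a d ≠ (1 : F) → ∀ t, lam (x r t) = 1 := by
    intro r a d hN hw t
    set s := t / (wt r a d - 1) with hs'
    have e1 : x r t = tor a d * x r s * (tor a d)⁻¹ * (x r s)⁻¹ := by
      rw [tor_conj, eq_mul_inv_iff_mul_eq, ← AddChar.map_add_eq_mul]
      congr 1
      rw [hs']
      field_simp [sub_ne_zero.2 hw]
      ring
    have hN' : (tor a d)⁻¹ ∈ N := inv_mem (hTN a d)
    rw [e1, hmul _ (mul_mem (mul_mem (hTN a d) (hN s)) hN') _ (inv_mem (hN s)),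
      hmul _ (mul_mem (hTN a d) (hN s)) _ hN', hmul _ (hTN a d) _ (hN s)]
    have hT : lam (tor a d) * lam (tor a d)⁻¹ = 1 := by rw [← hmul _ (hTN a d) _ hN', mul_inv_cancel, hone]
    have hX : lam (x r s) * lam (x r s)⁻¹ = 1 := by rw [← hmul _ (hN s) _ (inv_mem (hN s)), mul_inv_cancel, hone]
    linear_combination (lam (x r s) * lam (x r s)⁻¹) * hT + hX
  have h7 : ∀ t, x 7 t ∈ fixBoth ρ e := fun t => hfix _ (h.cj_Phi0_seven t)
    (hU 7 g 1 h.cj_Phi0_seven (by simpa [wt7] using hg1) t)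
  have h4 : ∀ t, x 4 t ∈ fixBoth ρ e := fun t => hfix _ (h.cj_Phi0_four t)
    (hU 4 1 g h.cj_Phi0_four (by
      rw [wt, show ((4 : Fin 12) : ℕ) = 4 from rfl, car_vals.1.1, car_vals.1.2]
      simpa using hg1) t)
  have hshort := fun a => (tor_short_mem h7 h4 a).1
  have hlam : ∀ a, tor a a⁻¹ ∈ N ∧ lam (tor a a⁻¹) = 1 := fun a => ⟨hTN _ _, by
    show tr (ρ _ * e) = 1
    rw [(hshort a).1, tr_eq_dm hi, h1, Nat.cast_one]⟩
  have hmu : ∀ a : Fˣ, (a : F) ^ 2 ≠ 1 → lam (tor a 1) = 1 := by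
    intro a ha
    have e1 : lam (tor a a) = lam (tor a 1) * lam (tor a 1) := by
      rw [show tor a a = tor a 1 * tor a 1 * tor a⁻¹ a by rw [tor_mul, tor_mul]; simp,
        hmul _ (mul_mem (hTN _ _) (hTN _ _)) _ (hTN _ _), hmul _ (hTN _ _) _ (hTN _ _),
        show lam (tor a⁻¹ a) = 1 by simpa using (hlam a⁻¹).2, mul_one]
    have e2 : tr (ρ (tor a a)) = tr (ρ (tor a 1)) := by rw [← nn_one_conj_tor, ← cj_rho, tr_cj]
    rw [h.trace_scalar h3 ha, h.trace_one h3 hs ha] at e2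
    have hne0 : lam (tor a 1) ≠ 0 := fun h0 => by
      have := hmul _ (hTN a 1) _ (inv_mem (hTN a 1))
      rw [mul_inv_cancel, hone, h0, zero_mul] at this
      exact one_ne_zero this
    refine mul_left_cancel₀ hne0 ?_
    rw [mul_one, ← e1]
    exact e2
  have hmuAll : ∀ a : Fˣ, lam (tor a 1) = 1 := by
    intro a
    by_cases ha : (a : F) ^ 2 = 1
    · have h2 : ((a * g⁻¹ : Fˣ) : F) ^ 2 ≠ 1 := by
        rw [Units.val_mul, mul_pow, ha, one_mul, Units.val_inv_eq_inv_val, inv_pow, Ne, inv_eq_one]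
        exact hg2
      have := hmul _ (hTN g 1) _ (hTN (a * g⁻¹) 1)
      rw [tor_mul, mul_one, mul_comm a, mul_inv_cancel_left, hmu g hg2] at this
      rw [this, one_mul]
      rw [mul_comm a] at h2
      exact hmu _ h2
    · exact hmu a ha
  refine ⟨h7, fun a d => ?_, (tor_short_mem h7 h4 1).2⟩
  rw [show tor a d = tor (a * d) 1 * tor d⁻¹ d by rw [tor_mul]; simp]
  exact mul_mem (hfix _ (hTN _ _) (hmuAll _)) (by simpa using hshort d⁻¹)

end Ctx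

end CfsgLib.GTwoMinDeg
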