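import Cfsg.Agent.Lib.GTwoMinDeg.Roots
import Cfsg.Agent.Lib.Classical.Card
import Cfsg.Agent.Lib.Classical.Transvection
import Cfsg.Agent.S1059

/-!
The class size of an element of order three centralizing the long root subgroups.
-/

set_option autoImplicit false
set_option linter.unusedSectionVars false
set_option maxRecDepth 100000

namespace CfsgLib.GTwoMinDeg

open Cfsg.Lie CfsgLib.ClassSquare.GTwo CfsgLib.Chev
open CfsgLib.Schur.SLFam (tv)
open scoped MatrixGroups

variable {F : Type*} [Field F] [Fintype F]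

/-- The long root `SL₃` in the group. -/
noncomputable def phiG : SL(3, F) →* Grp F :=
  (phi (F := F)).codRestrict (chevG2.group F) phi_mem_group

theorem phiG_tv {i j : Fin 3} (hij : i ≠ j) (t : F) :
    ((phiG (F := F) (tv i j t)) : GL chevG2.Idx F) = E (longData.R i j) t := phi_tv hij t

theorem card_ker_phiG : Nat.card (phiG (F := F)).ker ∣ 3 := by
  classical
  haveI := CfsgLib.Classical.isSimpleGroup_PSL (ι := Fin 3) (F := F) (Or.inl (by simp))
  set N := (phiG (F := F)).ker with hN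
  set Z := Subgroup.center SL(3, F) with hZ
  haveI : (N.map (QuotientGroup.mk' Z)).Normal :=
    Subgroup.Normal.map inferInstance _ (QuotientGroup.mk'_surjective Z)
  have hle : N ≤ Z := by
    rcases (inferInstance : IsSimpleGroup (Matrix.ProjectiveSpecialLinearGroup (Fin 3) F)
      ).eq_bot_or_eq_top_of_normal (N.map (QuotientGroup.mk' Z)) inferInstance with h | h
    · intro g hg
      have h1 : QuotientGroup.mk' Z g ∈ N.map (QuotientGroup.mk' Z) := ⟨g, hg, rfl⟩
      rw [h, Subgroup.mem_bot] at h1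
      exact (QuotientGroup.eq_one_iff g).1 h1
    · exfalso
      have hcomm : ∀ a b : SL(3, F), Commute (phiG a) (phiG b) := by
        have hd : ∀ a : SL(3, F), ∃ z ∈ Z, phiG a = phiG z := fun a => by
          obtain ⟨n, hn, e⟩ : QuotientGroup.mk' Z a ∈ N.map (QuotientGroup.mk' Z) := by
            rw [h]; trivial
          have hz : n⁻¹ * a ∈ Z := QuotientGroup.eq.1 e
          refine ⟨n⁻¹ * a, hz, ?_⟩
          rw [map_mul, map_inv, MonoidHom.mem_ker.1 hn, inv_one, one_mul]
        intro a b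
        obtain ⟨z, hz, ea⟩ := hd a
        rw [ea]
        exact (Commute.map (Subgroup.mem_center_iff.1 hz b).symm phiG)
      have h6 : phiG (tv (0 : Fin 3) 1 (1 : F)) = x 6 1 := Subtype.ext (phiG_tv (by decide) 1)
      have h10 : phiG (tv (1 : Fin 3) 2 (1 : F)) = x 10 1 := Subtype.ext (phiG_tv (by decide) 1)
      have h1 := hcomm (tv (0 : Fin 3) 1 (1 : F)) (tv (1 : Fin 3) 2 (1 : F))
      rw [h6, h10] at h1
      have h2 := conj6_10 (F := F) 1 1
      rw [h1.eq, mul_inv_cancel_right] at h2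
      have h3 := x_eq_one (mul_eq_left.1 h2.symm)
      exact one_ne_zero (by rwa [one_mul] at h3)
  refine (Subgroup.card_dvd_of_le hle).trans ?_
  rw [hZ, CfsgLib.Classical.card_center_SL, Fintype.card_fin]
  exact Nat.gcd_dvd_left _ _

theorem card_factor :
    Nat.card (Grp F) =
      Fintype.card F ^ 3 * (Fintype.card F ^ 3 + 1) * Nat.card SL(3, F) := by
  have hs := CfsgLib.Classical.sub_one_mul_card_SL (F := F) (n := 3) (by norm_num)
  rw [Fin.prod_univ_three] at hs
  simp only [Fin.val_zero, Fin.val_one, Fin.val_two, pow_zero, pow_one] at hs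
  obtain ⟨j, hj⟩ : ∃ j, Fintype.card F = j + 1 := ⟨Fintype.card F - 1, by
    have := Fintype.one_lt_card (α := F); omega⟩
  have hj1 : 0 < j := by have := Fintype.one_lt_card (α := F); omega
  show Nat.card ↥(chevG2.group F) = _
  rw [Cfsg.Agent.S1059.result rfl, hj]
  rw [hj, Nat.add_sub_cancel] at hs
  refine Nat.eq_of_mul_eq_mul_left hj1 ?_
  rw [show j * ((j + 1) ^ 3 * ((j + 1) ^ 3 + 1) * Nat.card SL(3, F)) =
    (j + 1) ^ 3 * ((j + 1) ^ 3 + 1) * (j * Nat.card SL(3, F)) by ring, hs]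
  have a3 : (j + 1) ^ 3 - 1 = j ^ 3 + 3 * j ^ 2 + 3 * j := Nat.sub_eq_of_eq_add (by ring)
  have a1 : (j + 1) ^ 3 - (j + 1) = (j + 1) * (j ^ 2 + 2 * j) := Nat.sub_eq_of_eq_add (by ring)
  have a2 : (j + 1) ^ 3 - (j + 1) ^ 2 = (j + 1) ^ 2 * j := Nat.sub_eq_of_eq_add (by ring)
  have a4 : (j + 1) ^ 2 - 1 = j ^ 2 + 2 * j := Nat.sub_eq_of_eq_add (by ring)
  have a6 : (j + 1) ^ 6 - 1 = (j ^ 3 + 3 * j ^ 2 + 3 * j) * ((j + 1) ^ 3 + 1) :=
    Nat.sub_eq_of_eq_add (by ring)
  rw [a1, a2, a3, a4, a6]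
  ring

theorem long_weights : ∀ i j : Fin 3, i ≠ j →
    (3 : ℤ) ∣ tabG2.car 0 (longData.R i j) ∧ longData.R i j < 12 := by
  decide +kernel

/-- An element of order three of the torus centralizes the long root `SL₃`. -/
theorem index_dvd {w : Fˣ} (hw : w ^ 3 = 1) :
    (Subgroup.centralizer ({tor w w⁻¹} : Set (Grp F))).index ∣
      3 * (Fintype.card F ^ 3 * (Fintype.card F ^ 3 + 1)) := by
  set C := Subgroup.centralizer ({tor w w⁻¹} : Set (Grp F)) with hC
  have hle : (phiG (F := F)).range ≤ C := by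
    rintro _ ⟨a, rfl⟩
    refine CfsgLib.ClassSquare.hom_mem_of_tv (k := 3) (by omega) (f := phiG (F := F)) (K := C)
      (fun i j hij t => ?_) a
    obtain ⟨⟨e, he⟩, hlt⟩ := long_weights i j hij
    rw [show phiG (tv i j t) = x ⟨_, hlt⟩ t from Subtype.ext (phiG_tv hij t), hC,
      Subgroup.mem_centralizer_singleton_iff]
    have h1 : wt ⟨_, hlt⟩ w w⁻¹ = (1 : F) := by
      rw [wt, mul_inv_cancel, Units.val_one, one_zpow, mul_one]
      show (w : F) ^ tabG2.car 0 (longData.R i j) = 1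
      rw [he, zpow_mul]
      norm_cast
      rw [hw, one_zpow, Units.val_one]
    have h2 := tor_conj ⟨_, hlt⟩ w w⁻¹ t
    rw [h1, one_mul, mul_inv_eq_iff_eq_mul] at h2
    exact h2.symm
  have h1 := Subgroup.card_mul_index (phiG (F := F)).ker
  rw [Subgroup.index_ker] at h1
  obtain ⟨u, hu⟩ := card_ker_phiG (F := F)
  obtain ⟨v, hv⟩ := Subgroup.card_dvd_of_le hle
  have h2 := Subgroup.card_mul_index C
  rw [card_factor, ← h1, hv] at h2
  have hpos : 0 < Nat.card (phiG (F := F)).range := Nat.card_pos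
  have h3 : v * C.index = Fintype.card F ^ 3 * (Fintype.card F ^ 3 + 1) * Nat.card (phiG (F := F)).ker :=
    Nat.eq_of_mul_eq_mul_left hpos (by rw [← mul_assoc, h2]; ring)
  refine Dvd.dvd.trans ⟨v, (mul_comm _ _).trans h3 |>.symm⟩ ?_
  rw [mul_comm _ (Nat.card (phiG (F := F)).ker)]
  exact mul_dvd_mul_right ⟨u, hu⟩ _

end CfsgLib.GTwoMinDeg
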