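import Cfsg.Agent.Lib.GTwoMinDeg.Setup

/-!
The joint weight projections of the radical on the fixed vectors of its centre.
-/

set_option autoImplicit false
set_option linter.unusedSectionVars false

namespace CfsgLib.GTwoMinDeg

open Module Cfsg.Lie

variable {F : Type*} [Field F] [Fintype F] {V : Type*} [AddCommGroup V] [Module ℂ V]
  [FiniteDimensional ℂ V] {ρ : Representation ℂ (Grp F) V} {ψ : AddChar F ℂ}

/-- An idempotent in the algebra of the radical modulo its centre. -/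
structure Good (ρ : Representation ℂ (Grp F) V) (ψ : AddChar F ℂ) (E : Module.End ℂ V) : Prop where
  idem : IsIdempotentElem E
  left : e0 ρ ψ * E = E
  comm : ∀ r, inQ r → ∀ a, Commute (qp ρ ψ r a) E

theorem qp_e0 {r : Fin 12} (hr : inQ r) (a : F) : e0 ρ ψ * P ρ ψ r a = qp ρ ψ r a :=
  (P_comm (inQ_11 hr) a 0).eq.symm

/-- The joint projection. -/
noncomputable def Phi (ρ : Representation ℂ (Grp F) V) (ψ : AddChar F ℂ) (y u v w : F) : Module.End ℂ V :=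
  qp ρ ψ 6 w * (qp ρ ψ 8 v * (qp ρ ψ 9 u * qp ρ ψ 10 y))

theorem inQ6 : inQ 6 := Or.inl rfl
theorem inQ8 : inQ 8 := Or.inr (Or.inl rfl)
theorem inQ9 : inQ 9 := Or.inr (Or.inr (Or.inl rfl))
theorem inQ10 : inQ 10 := Or.inr (Or.inr (Or.inr rfl))

theorem reorder4 {R : Type*} [Monoid R] {D C B A : R} (dc : Commute D C) (db : Commute D B)
    (da : Commute D A) (cb : Commute C B) (ca : Commute C A) (ba : Commute B A) :
    D * (C * (B * A)) = A * (B * (C * D)) := by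
  calc D * (C * (B * A)) = C * (B * A) * D := (dc.mul_right (db.mul_right da)).eq
    _ = B * A * C * D := by rw [(cb.mul_right ca).eq]
    _ = A * B * C * D := by rw [ba.eq]
    _ = A * (B * (C * D)) := by simp only [mul_assoc]

namespace Ctx

variable (h : Ctx ρ ψ)
include h

theorem good_e0 : Good ρ ψ (e0 ρ ψ) :=
  ⟨h.idem_e0, h.idem_e0.eq, fun r hr a =>
    Commute.mul_left (P_comm (inQ_11 hr) a 0) (Commute.refl _)⟩

theorem good_qp {r : Fin 12} (hr : inQ r) (a : F) : Good ρ ψ (qp ρ ψ r a) :=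
  ⟨h.idem_qp hr a, by rw [← mul_assoc, qp_e0 hr, mul_assoc, h.idem_e0.eq],
    fun _ hs b => qp_comm hs hr b a⟩

theorem good_mul {r : Fin 12} (hr : inQ r) (a : F) {E : Module.End ℂ V} (hE : Good ρ ψ E) :
    Good ρ ψ (qp ρ ψ r a * E) :=
  ⟨(h.idem_qp hr a).mul_of_commute (hE.comm r hr a) hE.idem,
    by rw [← mul_assoc, (h.good_qp hr a).left],
    fun _ hs b => (qp_comm hs hr b a).mul_right (hE.comm _ hs b)⟩

theorem qp_mul {r : Fin 12} (a : F) {E : Module.End ℂ V} (hE : Good ρ ψ E) :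
    qp ρ ψ r a * E = P ρ ψ r a * E := by
  rw [qp, mul_assoc, hE.left]

theorem good_right {E : Module.End ℂ V} (hE : Good ρ ψ E) : E * e0 ρ ψ = E := by
  have hc : Commute (e0 ρ ψ) E := by
    rw [← h.sum_qp 6]
    exact Commute.sum_left _ _ _ fun a _ => hE.comm 6 inQ6 a
  rw [← hc.eq, hE.left]

theorem comm_P {r : Fin 12} (hr : inQ r) (a : F) {E : Module.End ℂ V} (hE : Good ρ ψ E) :
    Commute (P ρ ψ r a) E := by
  show P ρ ψ r a * E = E * P ρ ψ r a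
  conv_rhs => rw [← h.good_right hE, mul_assoc, qp_e0 hr]
  rw [← (hE.comm r hr a).eq, h.qp_mul a hE]

theorem good_split {r : Fin 12} (hr : inQ r) {E : Module.End ℂ V} (hE : Good ρ ψ E) :
    dm E = ∑ a, dm (qp ρ ψ r a * E) := by
  rw [dm_split (ρ := ρ) (y := x r) h.prim hE.idem fun a => h.comm_P hr a hE]
  exact Finset.sum_congr rfl fun a _ => by rw [h.qp_mul a hE]

theorem good_dm_le {r : Fin 12} (hr : inQ r) (a : F) {E : Module.End ℂ V} (hE : Good ρ ψ E) :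
    dm (qp ρ ψ r a * E) ≤ dm E := by
  rw [h.good_split hr hE]
  exact Finset.single_le_sum (f := fun b => dm (qp ρ ψ r b * E)) (fun _ _ => Nat.zero_le _)
    (Finset.mem_univ a)

theorem good_Phi (y u v w : F) : Good ρ ψ (Phi ρ ψ y u v w) :=
  h.good_mul inQ6 w (h.good_mul inQ8 v (h.good_mul inQ9 u (h.good_qp inQ10 y)))

/-- The decomposition under the joint projections. -/
theorem dm_qp10 (y : F) : dm (qp ρ ψ 10 y) = ∑ u, ∑ v, ∑ w, dm (Phi ρ ψ y u v w) := by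
  rw [h.good_split inQ9 (h.good_qp inQ10 y)]
  refine Finset.sum_congr rfl fun u _ => ?_
  rw [h.good_split inQ8 (h.good_mul inQ9 u (h.good_qp inQ10 y))]
  refine Finset.sum_congr rfl fun v _ => ?_
  exact h.good_split inQ6 (h.good_mul inQ8 v (h.good_mul inQ9 u (h.good_qp inQ10 y)))

theorem cj_tor_qp (a d : Fˣ) (r : Fin 12) (b : F) :
    cj ρ (tor a d) (qp ρ ψ r b) = qp ρ ψ r (b / wt r a d) := by
  rw [cj_mul, cj_tor_P, cj_tor_P_zero]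

theorem cj_tor_Phi (a d : Fˣ) (y u v w : F) :
    cj ρ (tor a d) (Phi ρ ψ y u v w) =
      Phi ρ ψ (y / wt 10 a d) (u / wt 9 a d) (v / wt 8 a d) (w / wt 6 a d) := by
  simp only [Phi, cj_mul, cj_tor_P, cj_tor_P_zero, qp, e0]
  simp only [zero_div]

theorem dm_tor_Phi (a d : Fˣ) (y u v w : F) :
    dm (Phi ρ ψ (y / wt 10 a d) (u / wt 9 a d) (v / wt 8 a d) (w / wt 6 a d)) = dm (Phi ρ ψ y u v w) := by
  rw [← h.cj_tor_Phi a d y u v w, dm_cj ρ _ (h.good_Phi y u v w).idem]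

theorem cj_nn0_e0 : cj ρ (nn 0) (e0 ρ ψ) = e0 ρ ψ := by
  obtain ⟨e, -, he⟩ := cj_nn_P (ρ := ρ) (ψ := ψ) 0 11 11 refl_vals.1
  rw [he 0, mul_zero]

/-- The Weyl element of the short root exchanges the outer and the inner pairs. -/
theorem dm_nn0_Phi : ∃ e₁ e₂ e₃ e₄ : F, e₁ ≠ 0 ∧ e₂ ≠ 0 ∧ e₃ ≠ 0 ∧ e₄ ≠ 0 ∧ ∀ y u v w,
    dm (Phi ρ ψ y u v w) = dm (Phi ρ ψ (e₁ * w) (e₂ * v) (e₃ * u) (e₄ * y)) := by
  obtain ⟨e₁, h1, k1⟩ := cj_nn_P (ρ := ρ) (ψ := ψ) 0 6 10 refl_vals.2.2.1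
  obtain ⟨e₂, h2, k2⟩ := cj_nn_P (ρ := ρ) (ψ := ψ) 0 8 9 refl_vals.2.2.2.1
  obtain ⟨e₃, h3, k3⟩ := cj_nn_P (ρ := ρ) (ψ := ψ) 0 9 8 refl_vals.2.2.2.2.1
  obtain ⟨e₄, h4, k4⟩ := cj_nn_P (ρ := ρ) (ψ := ψ) 0 10 6 refl_vals.2.1
  refine ⟨e₁, e₂, e₃, e₄, h1, h2, h3, h4, fun y u v w => ?_⟩
  rw [← dm_cj ρ (nn 0) (h.good_Phi y u v w).idem]
  congr 1
  have q1 : ∀ b, cj ρ (nn 0) (qp ρ ψ 6 b) = qp ρ ψ 10 (e₁ * b) := fun b => by
    rw [cj_mul, h.cj_nn0_e0, k1]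
  have q2 : ∀ b, cj ρ (nn 0) (qp ρ ψ 8 b) = qp ρ ψ 9 (e₂ * b) := fun b => by
    rw [cj_mul, h.cj_nn0_e0, k2]
  have q3 : ∀ b, cj ρ (nn 0) (qp ρ ψ 9 b) = qp ρ ψ 8 (e₃ * b) := fun b => by
    rw [cj_mul, h.cj_nn0_e0, k3]
  have q4 : ∀ b, cj ρ (nn 0) (qp ρ ψ 10 b) = qp ρ ψ 6 (e₄ * b) := fun b => by
    rw [cj_mul, h.cj_nn0_e0, k4]
  unfold Phi
  rw [cj_mul ρ (nn 0) (qp ρ ψ 6 w), cj_mul ρ (nn 0) (qp ρ ψ 8 v), cj_mul ρ (nn 0) (qp ρ ψ 9 u), q1, q2, q3, q4]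
  exact reorder4 (qp_comm inQ10 inQ9 _ _) (qp_comm inQ10 inQ8 _ _) (qp_comm inQ10 inQ6 _ _)
    (qp_comm inQ9 inQ8 _ _) (qp_comm inQ9 inQ6 _ _) (qp_comm inQ8 inQ6 _ _)

end Ctx

end CfsgLib.GTwoMinDeg
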