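import Cfsg.Agent.Lib.GTwoMinDeg.CaseOne
import Cfsg.Agent.Lib.Chev.PrincipalSeries
import Cfsg.Agent.Lib.Chev.OrderData
import Cfsg.Agent.Lib.BNPair.Main

/-!
An irreducible representation of degree `q³` has no vector fixed by the long root parabolic: the
functions on the Bruhat cells and the orthogonality relation.
-/

set_option autoImplicit false
set_option linter.unusedSectionVars false
set_option maxRecDepth 100000

namespace CfsgLib.GTwoMinDeg

open Module Cfsg.Lie CfsgLib.Chev
open CfsgLib.ClassSquare.GTwo (E lt_n tab_facts)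

variable {F : Type*} [Field F] [Fintype F] {V : Type*} [AddCommGroup V] [Module ℂ V]
  [FiniteDimensional ℂ V] {ρ : Representation ℂ (Grp F) V} {ψ : AddChar F ℂ}

/-- The Borel subgroup inside the group. -/
noncomputable abbrev Bor (F : Type*) [Field F] : Subgroup (Grp F) :=
  (chevG2.borelSubgroup F).subgroupOf (chevG2.group F)

noncomputable local instance instFintypeSub (H : Subgroup (Grp F)) : Fintype H := Fintype.ofFinite H

theorem simple_vals : tabG2.simple 0 = 7 ∧ tabG2.simple 1 = 6 := by decide +kernel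

theorem posSet_iff {r : ℕ} : r ∈ posSet tabG2 ↔ 6 ≤ r ∧ r < 12 := by
  have h1 : tabG2.half = 6 ∧ tabG2.n = 12 := by decide +kernel
  simp [posSet, h1]

/-- A subgroup with the positive root subgroups and the torus contains the Borel subgroup. -/
theorem Bor_le {H : Subgroup (Grp F)} (hx : ∀ r : Fin 12, 6 ≤ (r : ℕ) → ∀ t, x r t ∈ H)
    (ht : ∀ a d, tor a d ∈ H) : Bor F ≤ H := by
  intro g hg
  have hle : chevG2.borelSubgroup F ≤ H.map (chevG2.group F).subtype := by
    refine sup_le ?_ fun t htd => ?_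
    · rw [certG2.posUnipotent_eq, CfsgLib.Chev.gen, Subgroup.closure_le]
      rintro _ ⟨r, hr, t, rfl⟩
      obtain ⟨h1, h2⟩ := posSet_iff.1 hr
      exact ⟨x ⟨r, h2⟩ t, hx ⟨r, h2⟩ h1 t, rfl⟩
    · obtain ⟨a, d, e⟩ := exists_tor (g := ⟨t, certG2.diagonal_le_group htd⟩) htd
      exact ⟨tor a d, ht a d, congrArg Subtype.val e.symm⟩
  obtain ⟨g', hg', e⟩ := hle hg
  rwa [show g = g' from Subtype.ext e.symm]

/-- A word of Weyl elements in the group. -/
noncomputable def nG (w : List (Fin 2)) : Grp F := (w.map nn).prod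

theorem coe_nG (w : List (Fin 2)) :
    (nG (F := F) w : GL chevG2.Idx F) = nW chevG2 F (w.map Fin.val) := by
  induction w with
  | nil => simp [nG, nW]
  | cons i w ih => rw [List.map_cons, nW_cons, ← ih, ← coe_nn]; simp [nG]

theorem nG_cons (i : Fin 2) (w : List (Fin 2)) : nG (F := F) (i :: w) = nn i * nG w := by
  simp [nG]

/-- The word can be extended on the left by the reflection of the long simple root. -/
noncomputable def okW : List (Fin 2) → Bool
  | [] => true
  | i :: w => okW w && (decide (i = 0) ||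
      decide (tabG2.half ≤ rword tabG2 ((w.map Fin.val).reverse) 6))

/-- The value on a cell. -/
noncomputable def cellVal (q : ℂ) (w : List (Fin 2)) : ℂ := (-1 / q) ^ w.count 1

/-- A function invariant on both sides under the Borel subgroup and killed by the parabolic sums. -/
structure Spherical (h : Grp F → ℂ) : Prop where
  bi : ∀ b ∈ Bor F, ∀ b' ∈ Bor F, ∀ g, h (b * g * b') = h g
  short : ∀ g, h (nn 0 * g) = h g
  long : ∀ g, ∑ p : ↥(Bor F ⊔ Subgroup.zpowers (nn (F := F) 1)), h ((p : Grp F) * g) = 0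

theorem Spherical.value {h : Grp F → ℂ} (hh : Spherical h) : ∀ w : List (Fin 2), okW w = true →
    h (nG w) = cellVal (Fintype.card F : ℂ) w * h 1 := by
  classical
  intro w
  induction w with
  | nil => intro _; simp [nG, cellVal]
  | cons i w ih =>
    intro hok
    simp only [okW, Bool.and_eq_true, Bool.or_eq_true, decide_eq_true_eq] at hok
    have ihw := ih hok.1
    rw [nG_cons]
    rcases (show i = 0 ∨ i = 1 by omega) with rfl | rfl
    · rw [hh.short, ihw, cellVal, cellVal, List.count_cons_of_ne (by decide)]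
    have hpos := hok.2.resolve_left (by decide)
    set g := nG (F := F) w with hg
    set wn := w.map Fin.val with hwn
    have hwok : WordOK tabG2 wn := fun a ha => by
      rw [hwn, List.mem_map] at ha
      obtain ⟨j, -, rfl⟩ := ha
      exact lt_of_lt_of_eq j.2 tab_facts.2.1.symm
    have hgm : (g : GL chevG2.Idx F) ∈ chevG2.monomialSubgroup F := by
      rw [hg, coe_nG]; exact certG2.nW_mem_monomial hwok
    obtain ⟨P, hB, -, hS⟩ := certG2.exists_bnPair (F := F)
    have hl : (1 : ℕ) < tabG2.l := by rw [tab_facts.2.1]; decide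
    have hs : nn (F := F) 1 ∈ P.S := by rw [hS]; exact ⟨1, hl, coe_nn 1⟩
    have hpar : ∀ p, p ∈ Bor F ⊔ Subgroup.zpowers (nn (F := F) 1) ↔
        p ∈ Bor F ∨ p ∈ CfsgLib.BN.cell P (CfsgLib.BN.gen P ⟨nn 1, hs⟩) := fun p => by
      rw [show Bor F = P.B from hB.symm, ← CfsgLib.BN.mem_parabolic_singleton (s := ⟨nn 1, hs⟩), Cfsg.BNPair.parabolic,
        Subgroup.zpowers_eq_closure]
    have hone : ∀ p, p ∈ Bor F → h (p * g) = h g := fun p hp => by
      simpa using hh.bi p hp 1 (one_mem _) g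
    have hcell : ∀ p, p ∈ CfsgLib.BN.cell P (CfsgLib.BN.gen P ⟨nn 1, hs⟩) →
        h (p * g) = h (nn 1 * g) := by
      intro p hp
      obtain ⟨b, hb, b', hb', e⟩ := (CfsgLib.BN.mem_cell_mk
        (n := (⟨nn 1, P.subset hs⟩ : P.N))).1 hp
      rw [hB] at hb hb'
      have e' : p = b * nn 1 * b' := e
      rw [e', mul_assoc b, mul_assoc b]
      have := hh.bi b hb 1 (one_mem _) (nn 1 * b' * g)
      rw [mul_one] at this
      rw [this]
      obtain ⟨u, hu, t, ht, eb⟩ := certG2.mem_borel_iff.1 (Subgroup.mem_subgroupOf.1 hb')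
      obtain ⟨v, hv, a, rfl⟩ := certG2.exists_posBut_mul hl hu
      rw [simple_vals.2] at eb
      set n : GL chevG2.Idx F := nS chevG2 F 1
      set gg : GL chevG2.Idx F := (g : GL chevG2.Idx F) with hgg
      have h1 : n * v * n⁻¹ ∈ chevG2.borelSubgroup F := by
        refine Subgroup.mem_sup_left ?_
        rw [certG2.posUnipotent_eq]
        exact gen_mono chevG2 (fun r hr => hr.1) (certG2.nS_conj_posBut hl hv)
      have h2 : gg⁻¹ * X chevG2 6 a * gg ∈ chevG2.borelSubgroup F := by
        have hx := certG2.rword_lt (w := wn.reverse) (fun a ha => hwok a (List.mem_reverse.1 ha))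
          (lt_n (show 6 < 12 by omega))
        have hm := Cert.Maps_inv (certG2.Maps_nW (F := F) hwok hx)
        rw [certG2.rword_reverse hwok (lt_n (show 6 < 12 by omega))] at hm
        obtain ⟨c, -, hc⟩ := hm
        have h3 := hc a
        rw [_root_.inv_inv, ← coe_nG, ← hg] at h3
        rw [h3]
        exact certG2.X_mem_borel hpos hx _
      have h4 : gg⁻¹ * t * gg ∈ chevG2.diagonalSubgroup F :=
        (Subgroup.mem_normalizer_iff''.1 (certG2.monomial_le_normalizer_diagonal hgm) t).1 ht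
      let c₁ : Grp F := ⟨n * v * n⁻¹, certG2.borel_le_group h1⟩
      have h5 : gg⁻¹ * X chevG2 6 a * gg * (gg⁻¹ * t * gg) ∈ chevG2.borelSubgroup F :=
        mul_mem h2 (Subgroup.mem_sup_right h4)
      let c₂ : Grp F := ⟨_, certG2.borel_le_group h5⟩
      have e2 : nn 1 * b' * g = c₁ * (nn 1 * g) * c₂ := by
        refine Subtype.ext ?_
        simp only [Subgroup.coe_mul, coe_nn, c₁, c₂]
        show n * (b' : GL chevG2.Idx F) * gg = n * v * n⁻¹ * (n * gg) * (gg⁻¹ * X chevG2 6 a * gg * (gg⁻¹ * t * gg))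
        rw [eb]
        group
      rw [e2]
      exact hh.bi c₁ h1 c₂ h5 _
    have hsum := hh.long g
    rw [← Finset.sum_subtype (Finset.univ.filter fun p => p ∈ Bor F ⊔ Subgroup.zpowers (nn (F := F) 1))
      (fun p => by simp) (fun p => h (p * g))] at hsum
    rw [← Finset.sum_filter_add_sum_filter_not _ (fun p => p ∈ Bor F),
      Finset.filter_filter, Finset.filter_filter] at hsum
    have f1 : (Finset.univ.filter fun p : Grp F =>
        p ∈ Bor F ⊔ Subgroup.zpowers (nn (F := F) 1) ∧ p ∈ Bor F) = Finset.univ.filter fun p => p ∈ Bor F :=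
      Finset.filter_congr fun p _ => ⟨And.right, fun hp => ⟨Subgroup.mem_sup_left hp, hp⟩⟩
    have f2 : (Finset.univ.filter fun p : Grp F =>
        p ∈ Bor F ⊔ Subgroup.zpowers (nn (F := F) 1) ∧ ¬ p ∈ Bor F) =
        Finset.univ.filter fun p => p ∈ CfsgLib.BN.cell P (CfsgLib.BN.gen P ⟨nn 1, hs⟩) := by
      refine Finset.filter_congr fun p _ => ⟨fun hp => ((hpar p).1 hp.1).resolve_left hp.2,
        fun hp => ⟨(hpar p).2 (Or.inr hp), fun hb => ?_⟩⟩
      have hne := CfsgLib.BN.cell_inj hp (CfsgLib.BN.mem_cell_one.2 (hB ▸ hb))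
      have hb1 := CfsgLib.BN.mk_eq_one.1 hne
      rw [hB] at hb1
      have hb2 : nS chevG2 F 1 ∈ chevG2.borelSubgroup F := hb1
      exact certG2.nS_conj_not_mem hl (mul_mem (mul_mem hb2
        (certG2.X_mem_borel (certG2.simple_spec hl).1 (certG2.simple_lt hl) 1)) hb2)
    rw [f1, f2, Finset.sum_congr rfl fun p hp => hone p (Finset.mem_filter.1 hp).2,
      Finset.sum_congr rfl fun p hp => hcell p (Finset.mem_filter.1 hp).2, Finset.sum_const,
      Finset.sum_const, ← Fintype.card_subtype, ← Fintype.card_subtype, ← Nat.card_eq_fintype_card,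
      ← Nat.card_eq_fintype_card, CfsgLib.BN.card_cell,
      certG2.cellCard_gen hB hl (coe_nn 1), hB, nsmul_eq_mul, nsmul_eq_mul] at hsum
    have hB0 : ((Nat.card (Bor F) : ℕ) : ℂ) ≠ 0 := Nat.cast_ne_zero.2 Nat.card_pos.ne'
    have hq0 : (Fintype.card F : ℂ) ≠ 0 := Nat.cast_ne_zero.2 Fintype.card_ne_zero
    have h3 : h g + (Fintype.card F : ℂ) * h (nn 1 * g) = 0 := by
      refine mul_left_cancel₀ hB0 ?_
      rw [mul_zero, ← hsum]
      push_cast
      ring
    rw [show cellVal (Fintype.card F : ℂ) (1 :: w) = -1 / (Fintype.card F : ℂ) * cellVal _ w by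
      rw [cellVal, cellVal, List.count_cons_self, pow_succ']]
    rw [mul_assoc, ← ihw]
    field_simp
    linear_combination h3

/-- The twelve words. -/
def words : List (List (Fin 2)) :=
  [[], [0], [1], [1, 0], [0, 1], [0, 1, 0], [1, 0, 1], [1, 0, 1, 0], [0, 1, 0, 1], [0, 1, 0, 1, 0],
    [1, 0, 1, 0, 1], [1, 0, 1, 0, 1, 0]]

theorem words_eq : transversal levelsG2 tabG2.l = words.map (List.map Fin.val) := by
  decide +kernel

theorem words_ok : (words.all fun w => okW w && okW w.reverse) = true := by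
  decide +kernel

theorem words_lengths : ∀ w ∈ words, tabG2.negCount (w.map Fin.val) = w.length := by
  decide +kernel

theorem words_nodup : words.Nodup := by decide

set_option maxHeartbeats 1000000 in
/-- A sum over the Bruhat cells. -/
theorem sum_bruhat (Φ : Grp F → ℂ) (hΦ : ∀ b ∈ Bor F, ∀ b' ∈ Bor F, ∀ g, Φ (b * g * b') = Φ g) :
    ∑ g, Φ g = (Nat.card (Bor F) : ℂ) *
      (words.map fun w => (Fintype.card F : ℂ) ^ w.length * Φ (nG w)).sum := by
  classical
  set W := words.toFinset with hW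
  have hok : ∀ w : W, WordOK tabG2 (w.1.map Fin.val) := fun w a ha => by
    rw [List.mem_map] at ha
    obtain ⟨j, -, rfl⟩ := ha
    exact lt_of_lt_of_eq j.2 tab_facts.2.1.symm
  have hU : ∀ w : W, Cert.cellUnipotent chevG2 F (nW chevG2 F (w.1.map Fin.val)) ≤
      chevG2.borelSubgroup F := fun w => by
    rw [certG2.cellUnipotent_word (hok w)]
    refine le_trans ?_ le_sup_left
    rw [certG2.posUnipotent_eq]
    exact gen_mono chevG2 fun r hr => (Cert.mem_cellList.1 hr).1
  let e : Bor F × (Σ w : W, Cert.cellUnipotent chevG2 F (nW chevG2 F (w.1.map Fin.val))) → Grp F :=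
    fun p => (p.1 : Grp F) * nG p.2.1.1 * ⟨p.2.2.1, certG2.borel_le_group (hU _ p.2.2.2)⟩
  have hb : Function.Bijective e := by
    constructor
    · rintro ⟨b, w, u⟩ ⟨b', w', u'⟩ hpp
      have hv := congrArg Subtype.val hpp
      simp only [e, Subgroup.coe_mul, coe_nG] at hv
      obtain ⟨h1, h2⟩ := certG2.bruhat_unique b.2 b'.2 (certG2.nW_mem_monomial (hok w))
        (certG2.nW_mem_monomial (hok w')) u.2 u'.2 hv
      have hs : SameAct tabG2 (w'.1.map Fin.val) (w.1.map Fin.val) := by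
        intro r hr
        have h3 : Maps chevG2 (nW chevG2 F (w'.1.map Fin.val)) r
            (rword tabG2 (w.1.map Fin.val) r) := by
          have := Cert.Maps_mul (certG2.Maps_diagonal h1 hr) (certG2.Maps_nW (F := F) (hok w) hr)
          rwa [mul_inv_cancel_left] at this
        exact certG2.Maps_unique (certG2.rword_lt (hok w') hr) (certG2.rword_lt (hok w) hr)
          (certG2.Maps_nW (hok w') hr) h3
      have hw : w = w' := by
        by_contra hne
        have hinj : Function.Injective (List.map (Fin.val : Fin 2 → ℕ)) :=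
          List.map_injective_iff.2 Fin.val_injective
        have hne' : (w'.1.map Fin.val) ≠ w.1.map Fin.val :=
          fun e => hne (Subtype.ext (hinj e).symm)
        have hm : ∀ v : W, (v.1.map Fin.val) ∈ transversal levelsG2 tabG2.l := fun v => by
          rw [words_eq]; exact List.mem_map.2 ⟨v.1, List.mem_toFinset.1 v.2, rfl⟩
        obtain ⟨i, hi, ei⟩ := List.getElem_of_mem (hm w')
        obtain ⟨j, hj, ej⟩ := List.getElem_of_mem (hm w)
        have hpw := List.pairwise_iff_getElem.1 (certG2.transversal_inj chkLevelsG2 tabG2.l le_rfl)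
        rcases lt_trichotomy i j with hij | rfl | hij
        · exact hpw i j hi hj hij (by rw [ei, ej]; exact hs)
        · exact hne' (ei.symm.trans ej)
        · exact hpw j i hj hi hij (by rw [ei, ej]; exact fun r hr => (hs r hr).symm)
      subst hw
      obtain ⟨hb, hu⟩ := h2 rfl
      rw [show b = b' from Subtype.ext (Subtype.ext hb), show u = u' from Subtype.ext hu]
    · rintro ⟨g, hg⟩
      obtain ⟨b, hb, n, hn, u, hu, rfl⟩ := certG2.bruhat_exists hg
      obtain ⟨wn, hwn, t, ht, rfl⟩ := certG2.exists_transversal_monomial chkLevelsG2 hn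
      rw [words_eq, List.mem_map] at hwn
      obtain ⟨w, hw, rfl⟩ := hwn
      have hwok := hok ⟨w, List.mem_toFinset.2 hw⟩
      have hu' : u ∈ Cert.cellUnipotent chevG2 F (nW chevG2 F (w.map Fin.val)) := by
        rw [certG2.cellUnipotent_eq (π := rword tabG2 (w.map Fin.val))
          fun r hr => ⟨certG2.rword_lt hwok hr, certG2.Maps_nW hwok hr⟩]
        rwa [certG2.cellUnipotent_eq (π := rword tabG2 (w.map Fin.val)) fun r hr =>
          ⟨certG2.rword_lt hwok hr,
          Cert.Maps_mul (certG2.Maps_nW hwok hr) (certG2.Maps_diagonal ht (certG2.rword_lt hwok hr))⟩] at hu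
      have hbt : b * t ∈ chevG2.borelSubgroup F := mul_mem hb (Subgroup.mem_sup_right ht)
      refine ⟨(⟨⟨b * t, certG2.borel_le_group hbt⟩, hbt⟩, ⟨⟨w, List.mem_toFinset.2 hw⟩, ⟨u, hu'⟩⟩),
        Subtype.ext ?_⟩
      simp only [e, Subgroup.coe_mul, coe_nG]
      rw [mul_assoc b t]
  rw [← (Equiv.ofBijective e hb).sum_comp]
  have he : ∀ p, Φ (Equiv.ofBijective e hb p) = Φ (nG p.2.1.1) := fun p =>
    hΦ _ p.1.2 _ (hU _ p.2.2.2) _
  simp only [he]
  rw [Fintype.sum_prod_type]
  simp only [Finset.sum_const, Finset.card_univ, nsmul_eq_mul]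
  rw [← Nat.card_eq_fintype_card,
    Fintype.sum_sigma, ← List.sum_toFinset _ words_nodup, ← hW, ← Finset.sum_coe_sort W]
  congr 1
  refine Finset.sum_congr rfl fun w _ => ?_
  show ∑ _y : Cert.cellUnipotent chevG2 F (nW chevG2 F (w.1.map Fin.val)), Φ (nG w.1) = _
  rw [Finset.sum_const, Finset.card_univ, nsmul_eq_mul, ← Nat.card_eq_fintype_card,
    certG2.card_cellUnipotent (hok w), words_lengths w.1 (List.mem_toFinset.1 w.2), Nat.cast_pow]

namespace Ctx

variable (h : Ctx ρ ψ)
include h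

theorem fixed_mem {v : V} (hv : ∀ g ∈ Bor F, ρ g v = v) : Phi ρ ψ 0 0 0 0 v = v := by
  classical
  have hp : ∀ r : Fin 12, 6 ≤ (r : ℕ) → P ρ ψ r 0 v = v := by
    intro r hr
    have hm : ∀ t, ρ (x r t) v = v := fun t => hv _ (by
      rw [x_mem_iff]
      refine Subgroup.mem_sup_left ?_
      rw [certG2.posUnipotent_eq]
      exact X_mem_gen chevG2 (S := posSet tabG2) (posSet_iff.2 ⟨hr, r.2⟩) t)
    simp only [P, proj, LinearMap.smul_apply, LinearMap.sum_apply, zero_mul, neg_zero,
      AddChar.map_zero_eq_one, one_smul, hm, Finset.sum_const, Finset.card_univ]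
    rw [← Nat.cast_smul_eq_nsmul ℂ, smul_smul, inv_mul_cancel₀ (Nat.cast_ne_zero.2 Fintype.card_ne_zero),
      one_smul]
  simp only [Phi, qp, e0, Module.End.mul_apply, hp 11 (by decide), hp 10 (by decide), hp 9 (by decide),
    hp 8 (by decide), hp 6 (by decide)]

/-- A vector fixed by the parabolic makes the degree differ from `q³`. -/
theorem no_fixed (h3 : (3 : F) ≠ 0) (hq : 4 < Fintype.card F) (hk : finrank ℂ V = Fintype.card F ^ 3)
    (hs : Sharp ρ ψ) (h1 : dm (Phi ρ ψ 0 0 0 0) = 1) : False := by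
  classical
  haveI := h.irr
  set e := Phi ρ ψ 0 0 0 0 with he
  have hi : IsIdempotentElem e := (h.good_Phi 0 0 0 0).idem
  obtain ⟨h7, hT, hn⟩ := h.fixes_parabolic h3 hq hs h1
  have hBor : Bor F ≤ fixBoth ρ e := Bor_le (fun r hr t => by
    rcases (show r = 6 ∨ r = 7 ∨ r = 8 ∨ r = 9 ∨ r = 10 ∨ r = 11 by omega) with
      rfl | rfl | rfl | rfl | rfl | rfl
    · exact h.mem_fix_rad (Or.inl inQ6) t
    · exact h7 t
    · exact h.mem_fix_rad (Or.inl inQ8) t
    · exact h.mem_fix_rad (Or.inl inQ9) t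
    · exact h.mem_fix_rad (Or.inl inQ10) t
    · exact h.mem_fix_rad (Or.inr rfl) t) hT
  set Pb := Bor F ⊔ Subgroup.zpowers (nn (F := F) 1)
  set S : Module.End ℂ V := ∑ p : ↥Pb, ρ (p : Grp F) with hS
  have hS0 : S = 0 := by
    refine LinearMap.ext fun w => ?_
    have hfix : ∀ g ∈ Pb, ρ g (S w) = S w := fun g hg => by
      simp only [hS, LinearMap.sum_apply, map_sum, ← Module.End.mul_apply, ← map_mul]
      exact Fintype.sum_equiv (Equiv.mulLeft (⟨g, hg⟩ : ↥Pb)) _ _ fun p => by rw [Equiv.coe_mulLeft]; rfl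
    have hev : e (S w) = S w := h.fixed_mem fun g hg => hfix g (Subgroup.mem_sup_left hg)
    rw [LinearMap.zero_apply]
    refine eq_zero_of_fixed (ρ := ρ) h.two fun g => ?_
    have hall : g ∈ Pb ⊔ fixBoth ρ e := by
      rw [eq_top_of (H := Pb ⊔ fixBoth ρ e) (fun t => Subgroup.mem_sup_right (h7 t))
        (fun t => Subgroup.mem_sup_right (h.mem_fix_rad (Or.inl inQ6) t)) fun i => by
          rcases (show i = 0 ∨ i = 1 by omega) with rfl | rfl
          · exact Subgroup.mem_sup_right hn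
          · exact Subgroup.mem_sup_left (Subgroup.mem_sup_right (Subgroup.mem_zpowers _))]
      trivial
    have hle : Pb ⊔ fixBoth ρ e ≤ ({
      carrier := {g | ρ g (S w) = S w}
      one_mem' := by simp
      mul_mem' := fun {a b} ha hb => by
        show ρ (a * b) (S w) = S w
        rw [map_mul, Module.End.mul_apply, show ρ b (S w) = S w from hb, show ρ a (S w) = S w from ha]
      inv_mem' := fun {a} ha => by
        show ρ a⁻¹ (S w) = S w
        conv_lhs => rw [← (show ρ a (S w) = S w from ha), ← Module.End.mul_apply, rho_inv_mul]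
        rfl } : Subgroup (Grp F)) := by
      refine sup_le hfix fun g hg => ?_
      show ρ g (S w) = S w
      rw [← hev, ← Module.End.mul_apply, hg.1]
    exact hle hall
  let f : Grp F → ℂ := fun g => tr (e * ρ g)
  have hsand : ∀ g, e * ρ g * e = f g • e := fun g => sandwich hi h1 _
  have hbi : ∀ b ∈ Bor F, ∀ b' ∈ Bor F, ∀ g, f (b * g * b') = f g := fun b hb b' hb' g => by
    show tr (e * ρ (b * g * b')) = tr (e * ρ g)
    rw [map_mul, map_mul, ← mul_assoc, ← mul_assoc, (hBor hb).2, tr, LinearMap.trace_mul_comm, ← mul_assoc,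
      (hBor hb').1]
  have hsp : Spherical f := by
    refine ⟨hbi, fun g => ?_, fun g => ?_⟩
    · show tr (e * ρ (nn 0 * g)) = tr (e * ρ g)
      rw [map_mul, ← mul_assoc, hn.2]
    · show ∑ p : ↥Pb, tr (e * ρ ((p : Grp F) * g)) = 0
      simp only [tr, map_mul, ← map_sum, ← Finset.mul_sum, ← Finset.sum_mul, ← hS, hS0, zero_mul, mul_zero,
        map_zero]
  have hsp' : Spherical fun g => f g⁻¹ := by
    refine ⟨fun b hb b' hb' g => ?_, fun g => ?_, fun g => ?_⟩
    · show f (b * g * b')⁻¹ = f g⁻¹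
      rw [mul_inv_rev, mul_inv_rev, ← mul_assoc]
      exact hbi _ (inv_mem hb') _ (inv_mem hb) _
    · show tr (e * ρ (nn 0 * g)⁻¹) = tr (e * ρ g⁻¹)
      rw [mul_inv_rev, map_mul, tr, LinearMap.trace_mul_comm, mul_assoc, (inv_mem hn).1,
        LinearMap.trace_mul_comm]
    · show ∑ p : ↥Pb, tr (e * ρ ((p : Grp F) * g)⁻¹) = 0
      have hinv : ∑ p : ↥Pb, ρ (p : Grp F)⁻¹ = 0 := by
        rw [← hS0, hS]
        exact Fintype.sum_equiv (Equiv.inv ↥Pb) _ _ fun p => rfl
      simp only [mul_inv_rev, tr, map_mul, ← map_sum, ← Finset.mul_sum, hinv, mul_zero, map_zero]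
  have hf1 : f 1 = 1 := by
    show tr (e * ρ 1) = 1
    rw [map_one, mul_one, tr_eq_dm hi, h1, Nat.cast_one]
  obtain ⟨c, hc⟩ := exists_scalar (ρ := ρ) (X := ∑ g, cj ρ g e) fun h' => by
    refine commute_rho_of_cj ρ ?_
    rw [cj_sum]
    exact Fintype.sum_equiv (Equiv.mulLeft h') _ _ fun g => cj_cj ρ h' g e
  have hck : c * (finrank ℂ V : ℂ) = Fintype.card (Grp F) := by
    have h2 := congrArg tr hc
    simp only [tr, map_sum, map_smul, LinearMap.trace_one, smul_eq_mul] at h2
    rw [← h2, Finset.sum_congr rfl fun g _ => show LinearMap.trace ℂ V (cj ρ g e) = 1 from by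
      rw [show LinearMap.trace ℂ V (cj ρ g e) = tr (cj ρ g e) from rfl, tr_cj, tr_eq_dm hi, h1, Nat.cast_one]]
    simp
  have hsum : ∑ g, f g * f g⁻¹ = c := by
    refine smul_left_injective ℂ (dm_pos.1 (by omega : 0 < dm e)) ?_
    show (∑ g, f g * f g⁻¹) • e = c • e
    calc (∑ g, f g * f g⁻¹) • e = ∑ g, e * cj ρ g e * e := by
          rw [Finset.sum_smul]
          refine Finset.sum_congr rfl fun g _ => ?_
          rw [mul_smul, ← hsand g⁻¹, ← smul_mul_assoc, ← smul_mul_assoc, ← hsand g, cj]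
          simp only [mul_assoc]
      _ = e * (∑ g, cj ρ g e) * e := by rw [Finset.mul_sum, Finset.sum_mul]
      _ = c • e := by rw [hc, mul_smul_comm, mul_one, smul_mul_assoc, hi.eq]
  have hG := sum_bruhat (F := F) (fun _ => (1 : ℂ)) fun _ _ _ _ _ => rfl
  rw [Finset.sum_const, Finset.card_univ, nsmul_eq_mul, mul_one] at hG
  have hF := sum_bruhat (F := F) (fun g => f g * f g⁻¹) fun b hb b' hb' g => by
    show f _ * f _ = f g * f g⁻¹
    rw [hbi b hb b' hb' g, mul_inv_rev, mul_inv_rev, ← mul_assoc, hbi _ (inv_mem hb') _ (inv_mem hb) g⁻¹]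
  have hval : ∀ w ∈ words, f (nG w) * f (nG w)⁻¹ = (1 / (Fintype.card F : ℂ)) ^ (2 * w.count 1) := by
    intro w hw
    have hok := List.all_eq_true.1 words_ok w hw
    simp only [Bool.and_eq_true] at hok
    have v1 := hsp.value w hok.1
    have v2 : f (nG w)⁻¹ = cellVal (Fintype.card F : ℂ) w * f 1⁻¹ := hsp'.value w hok.1
    rw [v1, v2, inv_one, hf1, cellVal, pow_mul]
    rw [mul_one, ← mul_pow]
    congr 1
    ring
  rw [hsum, List.map_congr_left fun w hw => by rw [hval w hw]] at hF
  rw [hF, hk, hG] at hck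
  simp only [words, List.map_cons, List.map_nil, List.sum_cons, List.sum_nil, List.length_cons,
    List.length_nil, List.count_cons, List.count_nil] at hck
  have hB0 : ((Nat.card (Bor F) : ℕ) : ℂ) ≠ 0 := Nat.cast_ne_zero.2 Nat.card_pos.ne'
  set q := Fintype.card F with hqdef
  have hq0 : (q : ℂ) ≠ 0 := Nat.cast_ne_zero.2 (by omega)
  rw [mul_assoc, mul_right_inj' hB0] at hck
  norm_num at hck
  field_simp at hck
  have hC : (3 : ℂ) * (q : ℂ) ^ 2 * ((q : ℂ) + 1) ^ 2 =
      1 + 2 * q + 2 * (q : ℂ) ^ 2 + 2 * (q : ℂ) ^ 3 + 2 * (q : ℂ) ^ 4 + 2 * (q : ℂ) ^ 5 + (q : ℂ) ^ 6 := by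
    linear_combination hck
  have hN : 3 * q ^ 2 * (q + 1) ^ 2 = 1 + q * (2 + 2 * q + 2 * q ^ 2 + 2 * q ^ 3 + 2 * q ^ 4 + q ^ 5) := by
    have : ((3 * q ^ 2 * (q + 1) ^ 2 : ℕ) : ℂ) =
        ((1 + q * (2 + 2 * q + 2 * q ^ 2 + 2 * q ^ 3 + 2 * q ^ 4 + q ^ 5) : ℕ) : ℂ) := by
      push_cast; linear_combination hC
    exact_mod_cast this
  have hd : q ∣ 3 * q ^ 2 * (q + 1) ^ 2 := Dvd.intro (3 * q * (q + 1) ^ 2) (by ring)
  rw [hN] at hd
  have h5 : q ∣ 1 := (Nat.dvd_add_left (Dvd.intro _ rfl)).1 hd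
  have := Nat.le_of_dvd one_pos h5
  omega

end Ctx

end CfsgLib.GTwoMinDeg
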