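import Cfsg.Agent.Lib.GTwoMinDeg.Three
import Cfsg.Agent.Lib.Chev.OrderData

/-!
The degree bound in characteristic three.
-/

set_option autoImplicit false
set_option linter.unusedSectionVars false

namespace CfsgLib.GTwoMinDeg

open Module Cfsg.Lie CfsgLib.Chev

variable {F : Type*} [Field F] [Fintype F] [CharP F 3] {V : Type*} [AddCommGroup V] [Module ℂ V]
  [FiniteDimensional ℂ V] {ρ : Representation ℂ (Grp F) V} {ψ : AddChar F ℂ}

theorem norm4 {R : Type*} [Monoid R] {a b c d : R} (hb : IsIdempotentElem b) (hd : IsIdempotentElem d)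
    (ab : Commute a b) (ac : Commute a c) (ad : Commute a d) (bc : Commute b c) (bd : Commute b d)
    (cd : Commute c d) :
    a * d * (b * d * (c * d)) = a * (b * (c * d)) ∧ c * b * (d * b * (a * b)) = a * (b * (c * d)) := by
  constructor
  · simp only [mul_assoc]
    rw [cd.symm.left_comm d, hd.eq, bd.symm.left_comm (c * d), cd.symm.left_comm d, hd.eq]
  · simp only [mul_assoc]
    rw [ab.symm.left_comm b, hb.eq, ad.symm.left_comm b, bd.symm.eq, ab.symm.left_comm (b * d), ← mul_assoc b b,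
      hb.eq, ac.symm.left_comm, bc.symm.left_comm]

/-- The multiplicity of the fixed vectors of the unipotent subgroup. -/
noncomputable def ufix (ρ : Representation ℂ (Grp F) V) (ψ : AddChar F ℂ) : ℕ :=
  dm (P ρ ψ 7 0 * Phi ρ ψ 0 0 0 0)

/-- The projection used for both radicals. -/
noncomputable def R0 (ρ : Representation ℂ (Grp F) V) (ψ : AddChar F ℂ) (y : F) : Module.End ℂ V :=
  qp ρ ψ 8 0 * (qp ρ ψ 9 0 * qp ρ ψ 10 y)

theorem Phi_eq_R0 (y w : F) : Phi ρ ψ y 0 0 w = qp ρ ψ 6 w * R0 ρ ψ y := rfl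

namespace Ctx

variable (h : Ctx ρ ψ)
include h

theorem good_R0 (y : F) : Good ρ ψ (R0 ρ ψ y) := h.good_mul inQ8 0 (h.good_mul inQ9 0 (h.good_qp inQ10 y))

theorem dmA_seven (z a b s : F) : dm (A3 ρ ψ z a (b - a * s)) = dm (A3 ρ ψ z a b) := by
  rw [h.dmA_eq, h.dmA_eq, Finset.sum_congr rfl fun y _ => h.N3_seven z a b s y]

theorem dmA_mid {a b : F} (hab : a ≠ 0 ∨ b ≠ 0) : dm (A3 ρ ψ 0 a b) = dm (A3 ρ ψ 0 1 0) := by
  have key : ∀ {a : F}, a ≠ 0 → ∀ b, dm (A3 ρ ψ 0 a b) = dm (A3 ρ ψ 0 1 0) := by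
    intro a ha b
    have e : cj ρ (tor (Units.mk0 a ha) 1) (A3 ρ ψ 0 a 0) = A3 ρ ψ 0 1 0 := by
      simp only [A3, cj_mul, cj_tor_P, wt11, wt9, wt8, zero_div, Units.val_mk0, div_self ha]
    rw [← h.dmA_seven 0 a b (b / a), mul_div_cancel₀ b ha, sub_self,
      ← dm_cj ρ (tor (Units.mk0 a ha) 1) (h.idemA 0 a 0), e]
  by_cases ha : a = 0
  · subst ha
    have hb : b ≠ 0 := hab.resolve_left (by simp)
    obtain ⟨e₁, -, k1⟩ := cj_nn_P (ρ := ρ) (ψ := ψ) 0 11 11 refl_vals.1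
    obtain ⟨e₂, h2, k2⟩ := cj_nn_P (ρ := ρ) (ψ := ψ) 0 8 9 refl_vals.2.2.2.1
    obtain ⟨e₃, -, k3⟩ := cj_nn_P (ρ := ρ) (ψ := ψ) 0 9 8 refl_vals.2.2.2.2.1
    rw [← dm_cj ρ (nn 0) (h.idemA 0 0 b)]
    simp only [A3, cj_mul, k1, k2, k3, mul_zero]
    rw [(c89 (ρ := ρ) (ψ := ψ) (e₂ * b) 0).symm.left_comm]
    exact key (mul_ne_zero h2 hb) 0
  · exact key ha b

theorem dm_e0_three : dm (e0 ρ ψ) = dm (A3 ρ ψ 0 0 0) + (Fintype.card F ^ 2 - 1) * dm (A3 ρ ψ 0 1 0) := by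
  show dm (P ρ ψ 11 0) = _
  rw [dm_split (ρ := ρ) (y := x 9) h.prim (h.idem_P 11 0)
      fun a => P_comm (ρ := ρ) (ψ := ψ) chk_three.2.2.2.1 a 0,
    Finset.sum_congr rfl fun a _ => dm_split (ρ := ρ) (y := x 8) h.prim (h.idem9_11 a 0)
      fun b => (c89 (ρ := ρ) (ψ := ψ) a b).mul_right (P_comm (ρ := ρ) (ψ := ψ) chk_three.2.1 b 0)]
  exact sum_pair_zero (fun a b => dm (A3 ρ ψ 0 a b)) fun a b hab => h.dmA_mid hab

theorem dmA_one (hψ : ∀ a, ψ (a ^ 3) = ψ a) {a : F} (ha : a ≠ 0) :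
    dm (A3 ρ ψ 0 a 0) = nzero (twisted ρ) ψ + (Fintype.card F - 1) * none' ρ ψ := by
  classical
  rw [h.dmA_eq, ← Finset.add_sum_erase _ _ (Finset.mem_univ (0 : F)), h.N3_mid_zero hψ ha,
    Finset.sum_congr rfl fun y hy => h.N3_mid_ne hψ ha (Finset.ne_of_mem_erase hy), Finset.sum_const,
    Finset.card_erase_of_mem (Finset.mem_univ _), Finset.card_univ, smul_eq_mul]

theorem tor_bot (d : Fˣ) (y a u : F) :
    dm (Phi ρ ψ (y * d) a 0 (u / (d : F) ^ 2)) = dm (Phi ρ ψ y a 0 u) := by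
  rw [← h.dm_tor_Phi 1 d y a 0 u, wt10, wt9, wt8, wt6, Units.val_one, one_pow, div_one, div_one,
    zero_div, div_div_eq_mul_div, div_one]

set_option maxHeartbeats 1000000 in
/-- No weight is nontrivial on both outer coordinates and the middle layer. -/
theorem no_I (hψ : ∀ a, ψ (a ^ 3) = ψ a) (hq : 9 ≤ Fintype.card F)
    (hk : finrank ℂ V ≤ Fintype.card F ^ 4 + Fintype.card F ^ 2) {a u y₀ : F} (ha : a ≠ 0) (hu : u ≠ 0) :
    dm (Phi ρ ψ y₀ a 0 u) = 0 := by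
  classical
  by_contra hne
  set q := Fintype.card F with hqdef
  haveI : Fact (Nat.Prime 3) := ⟨Nat.prime_three⟩
  let L : F →+ F :=
    { toFun := fun s => s * a + s ^ 3 * u
      map_zero' := by simp
      map_add' := fun s t => by
        show (s + t) * a + (s + t) ^ 3 * u = _
        rw [add_pow_char s t 3]
        ring }
  have hL : ∀ s, L s = s * a + s ^ 3 * u := fun s => rfl
  set I : Finset F := Finset.univ.image L with hI
  have hIcard : q ≤ 3 * I.card := by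
    rw [hqdef, ← Finset.card_univ]
    refine Finset.card_le_mul_card_image _ 3 fun r hr => ?_
    obtain ⟨s₀, -, rfl⟩ := Finset.mem_image.1 hr
    have hker : ∃ σ : F, ∀ t, L t = 0 → t = 0 ∨ t = σ ∨ t = -σ := by
      by_cases hσ : ∃ σ : F, σ ≠ 0 ∧ L σ = 0
      · obtain ⟨σ, hσ0, hσ⟩ := hσ
        refine ⟨σ, fun t ht => ?_⟩
        by_cases ht0 : t = 0
        · exact Or.inl ht0
        · refine Or.inr (sq_eq_sq_iff_eq_or_eq_neg.1 (mul_right_cancel₀ hu ?_))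
          have e1 : t * (a + t ^ 2 * u) = 0 := by
            rw [← ht, hL]; ring
          have e2 : σ * (a + σ ^ 2 * u) = 0 := by
            rw [← hσ, hL]; ring
          linear_combination (mul_eq_zero.1 e1).resolve_left ht0 - (mul_eq_zero.1 e2).resolve_left hσ0
      · push Not at hσ
        exact ⟨0, fun t ht => Or.inl (by_contra fun h0 => hσ t h0 ht)⟩
    obtain ⟨σ, hσ⟩ := hker
    refine (Finset.card_le_card (t := {s₀, s₀ + σ, s₀ + -σ}) fun t ht => ?_).trans Finset.card_le_three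
    have h0 : L (t - s₀) = 0 := by
      rw [map_sub, (Finset.mem_filter.1 ht).2, sub_self]
    simp only [Finset.mem_insert, Finset.mem_singleton]
    rcases hσ _ h0 with e | e | e
    · exact Or.inl (sub_eq_zero.1 e)
    · exact Or.inr (Or.inl (by rw [← e]; ring))
    · exact Or.inr (Or.inr (by rw [← e]; ring))
  have hshift : ∀ r ∈ I, 1 ≤ dm (Phi ρ ψ (y₀ - r) a 0 u) := fun r hr => by
    obtain ⟨s, -, rfl⟩ := Finset.mem_image.1 hr
    rw [hL, h.Phi_four]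
    exact Nat.pos_of_ne_zero hne
  have hsum : I.card ≤ ∑ y, dm (Phi ρ ψ y a 0 u) := by
    have e := Fintype.sum_equiv (Equiv.subLeft y₀) (fun r => dm (Phi ρ ψ (y₀ - r) a 0 u))
      (fun y => dm (Phi ρ ψ y a 0 u)) fun r => rfl
    rw [← e]
    refine le_trans ?_ (Finset.sum_le_univ_sum_of_nonneg (s := I) fun _ => Nat.zero_le _)
    calc I.card = ∑ _r ∈ I, 1 := by simp
      _ ≤ _ := Finset.sum_le_sum hshift
  set S : Finset F := (Finset.univ : Finset Fˣ).image fun d : Fˣ => u / (d : F) ^ 2 with hS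
  have hScard : q - 1 ≤ 2 * S.card := by
    rw [hqdef, ← Fintype.card_units, ← Finset.card_univ]
    refine Finset.card_le_mul_card_image _ 2 fun r hr => ?_
    obtain ⟨d₀, -, rfl⟩ := Finset.mem_image.1 hr
    refine (Finset.card_le_card (t := {d₀, -d₀}) fun d hd => ?_).trans Finset.card_le_two
    have e := (Finset.mem_filter.1 hd).2
    rw [div_eq_div_iff (pow_ne_zero 2 d.ne_zero) (pow_ne_zero 2 d₀.ne_zero)] at e
    simp only [Finset.mem_insert, Finset.mem_singleton]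
    rcases sq_eq_sq_iff_eq_or_eq_neg.1 (mul_left_cancel₀ hu e) with e | e
    · exact Or.inl (Units.ext e.symm)
    · refine Or.inr (Units.ext ?_)
      rw [Units.val_neg, e, neg_neg]
  have hA : S.card * I.card ≤ dm (A3 ρ ψ 0 a 0) := by
    rw [h.dmA_eq, Finset.sum_congr rfl fun y _ => h.N3_eq_Phi a 0 y, Finset.sum_comm]
    refine le_trans ?_ (Finset.sum_le_univ_sum_of_nonneg (s := S) fun _ => Nat.zero_le _)
    rw [← smul_eq_mul, ← Finset.sum_const]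
    refine Finset.sum_le_sum fun w hw => ?_
    obtain ⟨d, -, rfl⟩ := Finset.mem_image.1 hw
    refine hsum.trans (le_of_eq ?_)
    exact Fintype.sum_equiv (Equiv.mulRight₀ (d : F) d.ne_zero) _ _ fun y => (h.tor_bot d y a u).symm
  have hn1 : 1 ≤ none' ρ ψ := by
    obtain ⟨r, hr, hne'⟩ : ∃ r ∈ I, y₀ - r ≠ 0 := by
      by_contra hc
      push Not at hc
      have : I.card ≤ 1 := Finset.card_le_one.2 fun r hr r' hr' => by
        rw [← sub_eq_zero.1 (hc r hr), ← sub_eq_zero.1 (hc r' hr')]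
      omega
    rw [← h.N3_mid_ne hψ ha hne', h.N3_eq_Phi]
    exact (hshift r hr).trans (Finset.single_le_sum (f := fun w => dm (Phi ρ ψ (y₀ - r) a 0 w))
      (fun _ _ => Nat.zero_le _) (Finset.mem_univ u))
  have hA1 : S.card * I.card ≤ dm (A3 ρ ψ 0 1 0) := le_of_le_of_eq hA (h.dmA_mid (Or.inl ha))
  have hC := h.dm_e0_three
  have hV := h.finrank_three
  rw [← hqdef] at hC hV
  have h6 : (q - 1) * q ≤ 6 * (S.card * I.card) :=
    le_trans (Nat.mul_le_mul hScard hIcard) (le_of_eq (by ring))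
  have e1 : (q ^ 2 - 1) * ((q - 1) * q) ≤ 6 * ((q ^ 2 - 1) * dm (A3 ρ ψ 0 1 0)) :=
    le_trans (Nat.mul_le_mul_left _ (h6.trans (Nat.mul_le_mul_left 6 hA1))) (le_of_eq (by ring))
  have e2 : (q - 1) * (q * (q ^ 2 - 1)) ≤
      (q - 1) * (q * (nzero ρ ψ + (q ^ 2 - 1) * none' ρ ψ)) := by
    refine Nat.mul_le_mul_left _ (Nat.mul_le_mul_left _ ?_)
    calc q ^ 2 - 1 = (q ^ 2 - 1) * 1 := (mul_one _).symm
      _ ≤ (q ^ 2 - 1) * none' ρ ψ := Nat.mul_le_mul_left _ hn1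
      _ ≤ _ := Nat.le_add_left _ _
  have e3 : 7 * ((q - 1) * (q * (q ^ 2 - 1))) ≤ 6 * (q ^ 4 + q ^ 2) := by
    have : (q ^ 2 - 1) * ((q - 1) * q) = (q - 1) * (q * (q ^ 2 - 1)) := by ring
    omega
  obtain ⟨r, hr⟩ : ∃ r, q = r + 9 := ⟨q - 9, by omega⟩
  rw [hr, show r + 9 - 1 = r + 8 by omega,
    show (r + 9) ^ 2 - 1 = r ^ 2 + 18 * r + 80 from Nat.sub_eq_of_eq_add (by ring)] at e3
  nlinarith [Nat.zero_le (r ^ 4), Nat.zero_le (r ^ 3), Nat.zero_le (r ^ 2)]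

theorem nzero_twisted_eq (hψ : ∀ a, ψ (a ^ 3) = ψ a) (hq : 9 ≤ Fintype.card F)
    (hk : finrank ℂ V ≤ Fintype.card F ^ 4 + Fintype.card F ^ 2) :
    nzero (twisted ρ) ψ = none' ρ ψ := by
  classical
  have hI : ∀ y, N3 ρ ψ 0 1 0 y = dm (Phi ρ ψ y 1 0 0) := fun y => by
    rw [h.N3_eq_Phi, Finset.sum_eq_single (0 : F) (fun u _ hu => h.no_I hψ hq hk one_ne_zero hu)
      fun e => absurd (Finset.mem_univ _) e]
  rw [← h.N3_mid_zero hψ one_ne_zero, ← h.N3_mid_ne hψ one_ne_zero one_ne_zero, hI, hI]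
  have := h.Phi_four 1 1 0 1
  simpa using this

theorem mult_one (hψ : ∀ a, ψ (a ^ 3) = ψ a) (hq : 9 ≤ Fintype.card F)
    (hk : finrank ℂ V ≤ Fintype.card F ^ 4 + Fintype.card F ^ 2) :
    nzero ρ ψ = 1 ∧ none' ρ ψ = 1 ∧ nzero (twisted ρ) ψ = 1 := by
  have h1 := h.nzero_twisted_eq hψ hq hk
  have h2 : nzero ρ ψ = none' ρ ψ := by
    rw [← h.twisted_twisted_zero hψ, h.twist.nzero_twisted_eq hψ hq hk, h.twisted_none hψ]
  have hpos := h.mult_pos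
  have hV := h.finrank_three
  set n := none' ρ ψ
  rw [h2] at hpos hV
  have hn0 : n ≠ 0 := fun e => by simp [e] at hpos
  have hn2 : n < 2 := by
    by_contra hn
    obtain ⟨r, hr⟩ : ∃ r, Fintype.card F = r + 9 := ⟨Fintype.card F - 9, by omega⟩
    rw [hr] at hV hk
    rw [show r + 9 - 1 = r + 8 by omega,
      show (r + 9) ^ 2 - 1 = r ^ 2 + 18 * r + 80 from Nat.sub_eq_of_eq_add (by ring)] at hV
    have : (r + 8) * ((r + 9) * (2 + (r ^ 2 + 18 * r + 80) * 2)) ≤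
        (r + 8) * ((r + 9) * (n + (r ^ 2 + 18 * r + 80) * n)) := by gcongr <;> omega
    nlinarith [Nat.zero_le (r ^ 4), Nat.zero_le (r ^ 3), Nat.zero_le (r ^ 2)]
  refine ⟨?_, ?_, ?_⟩ <;> omega

theorem cj_seven_R0 (s y : F) : cj ρ (x 7 s) (R0 ρ ψ y) = R0 ρ ψ y := by
  set E := qp ρ ψ 9 0 * qp ρ ψ 10 y with hE
  have gE : Good ρ ψ E := h.good_mul inQ9 0 (h.good_qp inQ10 y)
  have eE : cj ρ (x 7 s) E = E := by
    rw [hE, cj_mul ρ (x 7 s) (qp ρ ψ 9 0), cj_mul, cj_mul, cj_x_e0 (chkC_11 7 (by simp)).1,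
      cj_x_P chk_three.2.2.2.2.2.2.2.2.1, cj_of_commute ρ (commute_rho_proj ρ ψ (fun u => x79_comm s u) 0)]
  have a9 : qp ρ ψ 9 0 * E = E := by rw [hE, ← mul_assoc, (h.idem_qp inQ9 0).eq]
  show cj ρ (x 7 s) (qp ρ ψ 8 0 * E) = qp ρ ψ 8 0 * E
  rw [cj_mul ρ (x 7 s) (qp ρ ψ 8 0), eE, cj_mul, cj_x_e0 (chkC_11 7 (by simp)).1]
  simp only [qp, mul_assoc, gE.left]
  have e : cj ρ (x 7 s) (P ρ ψ 8 0) * E = P ρ ψ 8 (0 - 0) * E := by
    refine cj_proj_mul (fun t => ?_) 0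
    rw [conj7_8, three_zero, neg_two, neg_zero]
    simp only [zero_mul, AddChar.map_zero_eq_one, mul_one, one_mul]
    rw [map_mul, mul_assoc, h.eig_of_absorb gE a9, mul_smul_comm]
    simp only [zero_mul, AddChar.map_zero_eq_one, one_smul]
  rw [e, sub_zero]

theorem cj_seven_Phi (s y w : F) :
    cj ρ (x 7 s) (Phi ρ ψ y 0 0 w) = Phi ρ ψ y 0 0 (w - s ^ 3 * y) := by
  rw [Phi_eq_R0, Phi_eq_R0]
  set E := R0 ρ ψ y with hE
  have gE : Good ρ ψ E := h.good_R0 y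
  have a8 : qp ρ ψ 8 0 * E = E := by rw [hE, R0, ← mul_assoc, (h.idem_qp inQ8 0).eq]
  have a9 : qp ρ ψ 9 0 * E = E := by
    rw [hE, R0, (qp_comm (ρ := ρ) (ψ := ψ) inQ9 inQ8 0 0).left_comm, ← mul_assoc (qp ρ ψ 9 0) (qp ρ ψ 9 0),
      (h.idem_qp inQ9 0).eq]
  have a10 : qp ρ ψ 10 y * E = E := by
    rw [hE, R0, (qp_comm (ρ := ρ) (ψ := ψ) inQ10 inQ8 y 0).left_comm,
      (qp_comm (ρ := ρ) (ψ := ψ) inQ10 inQ9 y 0).left_comm, (h.idem_qp inQ10 y).eq]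
  rw [cj_mul ρ (x 7 s) (qp ρ ψ 6 w), h.cj_seven_R0, cj_mul, cj_x_e0 (chkC_11 7 (by simp)).1]
  simp only [qp, mul_assoc, gE.left, ← hE]
  refine cj_proj_mul (fun t => ?_) w
  have k10 := h.eig_of_absorb gE a10
  have k9 := h.eig_of_absorb gE a9
  have k8 := h.eig_of_absorb gE a8
  have k11 : ∀ r, ρ (x 11 r) * E = E := fun r => by rw [← gE.left, ← mul_assoc, rho11_e0]
  rw [conj7_6]
  simp only [map_mul, mul_assoc, k11, k8 _, mul_smul_comm, k9 _, k10 _, smul_smul, zero_mul,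
    AddChar.map_zero_eq_one, mul_one, one_mul]
  congr 2
  ring

/-- The weights with trivial middle layer have multiplicity one. -/
theorem weights_line (hψ : ∀ a, ψ (a ^ 3) = ψ a) (hq : 9 ≤ Fintype.card F)
    (hk : finrank ℂ V ≤ Fintype.card F ^ 4 + Fintype.card F ^ 2) :
    (∀ y, y ≠ 0 → ∀ w, dm (Phi ρ ψ y 0 0 w) = 1) ∧ ∀ w, w ≠ 0 → dm (Phi ρ ψ 0 0 0 w) = 1 := by
  classical
  obtain ⟨hn0, hn1, -⟩ := h.mult_one hψ hq hk
  obtain ⟨e₁, e₂, e₃, e₄, h1, h2, -, h4, knn⟩ := h.dm_nn0_Phi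
  have hy1 : ∀ y, y ≠ 0 → ∀ w, dm (Phi ρ ψ y 0 0 w) = 1 := by
    intro y hy
    have hM : ∀ a b, N3 ρ ψ 0 a b y = if a = 0 then (if b = 0 then N3 ρ ψ 0 0 0 y else 0) else 1 := by
      intro a b
      by_cases ha : a = 0
      · subst ha
        rw [if_pos rfl]
        by_cases hb : b = 0
        · rw [if_pos hb, hb]
        · rw [if_neg hb, h.N3_eq_Phi]
          refine Finset.sum_eq_zero fun w _ => ?_
          rw [knn y 0 b w, mul_zero]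
          exact h.no_I hψ hq hk (mul_ne_zero h2 hb) (mul_ne_zero h4 hy)
      · rw [if_neg ha, ← h.N3_seven 0 a b (b / a) y, mul_div_cancel₀ b ha, sub_self,
          h.N3_mid_ne hψ ha hy, hn1]
    have hsum := h.dm_qp10 y
    rw [h.dm_qp10_three hy, hn0, hn1] at hsum
    simp only [← h.N3_eq_Phi] at hsum
    rw [Finset.sum_congr rfl fun a _ => Finset.sum_congr rfl fun b _ => hM a b,
      ← Finset.add_sum_erase _ _ (Finset.mem_univ (0 : F))] at hsum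
    rw [Finset.sum_congr rfl fun a ha => Finset.sum_congr rfl fun b _ => if_neg (Finset.ne_of_mem_erase ha)]
      at hsum
    simp only [if_pos rfl, Finset.sum_const, Finset.card_univ, Finset.card_erase_of_mem (Finset.mem_univ (0 : F)),
      smul_eq_mul, mul_one, Finset.sum_ite_eq', Finset.mem_univ, if_true] at hsum
    have hconst : ∀ w, dm (Phi ρ ψ y 0 0 w) = dm (Phi ρ ψ y 0 0 0) := by
      intro w
      obtain ⟨s, hs⟩ := cube_bijective.2 (w / y)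
      rw [← dm_cj ρ (x 7 s) (h.good_Phi y 0 0 w).idem, h.cj_seven_Phi,
        show s ^ 3 = w / y from hs, div_mul_cancel₀ w hy, sub_self]
    rw [h.N3_eq_Phi, Finset.sum_congr rfl fun w _ => hconst w, Finset.sum_const, Finset.card_univ,
      smul_eq_mul] at hsum
    intro w
    rw [hconst w]
    obtain ⟨r, hr⟩ : ∃ r, Fintype.card F = r + 9 := ⟨Fintype.card F - 9, by omega⟩
    rw [hr, show r + 9 - 1 = r + 8 by omega,
      show (r + 9) ^ 2 - 1 = r ^ 2 + 18 * r + 80 from Nat.sub_eq_of_eq_add (by ring)] at hsum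
    refine Nat.eq_of_mul_eq_mul_left (show 0 < r + 9 by omega) ?_
    linarith
  refine ⟨hy1, fun w hw => ?_⟩
  rw [knn 0 0 0 w, mul_zero, mul_zero, mul_zero]
  exact hy1 _ (mul_ne_zero h1 hw) 0

theorem finrank_exact (hψ : ∀ a, ψ (a ^ 3) = ψ a) (hq : 9 ≤ Fintype.card F)
    (hk : finrank ℂ V ≤ Fintype.card F ^ 4 + Fintype.card F ^ 2) :
    finrank ℂ V + (Fintype.card F + 1) =
      Fintype.card F ^ 4 + Fintype.card F ^ 2 + dm (Phi ρ ψ 0 0 0 0) := by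
  classical
  obtain ⟨hn0, hn1, hn2⟩ := h.mult_one hψ hq hk
  obtain ⟨hy, hw⟩ := h.weights_line hψ hq hk
  have h00 : dm (A3 ρ ψ 0 0 0) =
      dm (Phi ρ ψ 0 0 0 0) + (Fintype.card F - 1) + (Fintype.card F - 1) * Fintype.card F := by
    rw [h.dmA_eq, Finset.sum_congr rfl fun y _ => h.N3_eq_Phi 0 0 y,
      ← Finset.add_sum_erase _ _ (Finset.mem_univ (0 : F)),
      Finset.sum_congr rfl fun y hy' => Finset.sum_congr rfl fun w _ => hy y (Finset.ne_of_mem_erase hy') w,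
      ← Finset.add_sum_erase _ _ (Finset.mem_univ (0 : F)),
      Finset.sum_congr rfl fun w hw' => hw w (Finset.ne_of_mem_erase hw')]
    simp [Finset.card_erase_of_mem, Finset.card_univ]
  have h10 := h.dmA_one hψ (one_ne_zero (α := F))
  rw [hn1, hn2] at h10
  have hV := h.finrank_three
  rw [hn0, hn1, h.dm_e0_three, h00, h10] at hV
  rw [hV]
  obtain ⟨r, hr⟩ : ∃ r, Fintype.card F = r + 9 := ⟨Fintype.card F - 9, by omega⟩
  rw [hr, show r + 9 - 1 = r + 8 by omega,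
    show (r + 9) ^ 2 - 1 = r ^ 2 + 18 * r + 80 from Nat.sub_eq_of_eq_add (by ring)]
  ring

theorem comm7_R0 (c : F) : Commute (P ρ ψ 7 c) (R0 ρ ψ 0) :=
  commute_proj_left ρ ψ (fun t => commute_rho_of_cj ρ (h.cj_seven_R0 t 0)) c

theorem comm7_Phi (c w : F) : Commute (P ρ ψ 7 c) (Phi ρ ψ 0 0 0 w) :=
  commute_proj_left ρ ψ (fun t => commute_rho_of_cj ρ (by
    rw [h.cj_seven_Phi, mul_zero, sub_zero])) c

theorem six_seven (w : F) :
    Commute (P ρ ψ 6 w) (P ρ ψ 7 0 * R0 ρ ψ 0) ∧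
      P ρ ψ 6 w * (P ρ ψ 7 0 * R0 ρ ψ 0) = P ρ ψ 7 0 * Phi ρ ψ 0 0 0 w := by
  have g := h.good_R0 0
  have e1 : Phi ρ ψ 0 0 0 w = P ρ ψ 6 w * R0 ρ ψ 0 := by rw [Phi_eq_R0, h.qp_mul w g]
  have e2 : P ρ ψ 6 w * (P ρ ψ 7 0 * R0 ρ ψ 0) = P ρ ψ 7 0 * Phi ρ ψ 0 0 0 w := by
    rw [(h.comm7_R0 0).eq, ← mul_assoc, ← e1, (h.comm7_Phi 0 w).eq]
  refine ⟨?_, e2⟩
  show P ρ ψ 6 w * (P ρ ψ 7 0 * R0 ρ ψ 0) = P ρ ψ 7 0 * R0 ρ ψ 0 * P ρ ψ 6 w
  rw [e2, mul_assoc, e1, (h.comm_P inQ6 w g).eq]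

/-- The fixed vectors of the radical of the short root parabolic. -/
theorem dm_short (hψ : ∀ a, ψ (a ^ 3) = ψ a) (hq : 9 ≤ Fintype.card F)
    (hk : finrank ℂ V ≤ Fintype.card F ^ 4 + Fintype.card F ^ 2) :
    dm (P ρ ψ 7 0 * R0 ρ ψ 0) = ufix ρ ψ + (Fintype.card F - 1) := by
  classical
  obtain ⟨-, hw⟩ := h.weights_line hψ hq hk
  have hid : IsIdempotentElem (P ρ ψ 7 0 * R0 ρ ψ 0) :=
    (h.idem_P 7 0).mul_of_commute (h.comm7_R0 0) (h.good_R0 0).idem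
  rw [dm_split (ρ := ρ) (y := x 6) h.prim hid fun w => (h.six_seven w).1,
    ← Finset.add_sum_erase _ _ (Finset.mem_univ (0 : F))]
  congr 1
  · rw [ufix, ← (h.six_seven 0).2]
  refine (Finset.sum_congr rfl fun w hw' => ?_).trans
    (by simp [Finset.card_erase_of_mem, Finset.card_univ] : ∑ _w ∈ Finset.univ.erase (0 : F), 1 = _)
  have hw0 := Finset.ne_of_mem_erase hw'
  rw [show proj ρ ψ (x 6) w = P ρ ψ 6 w from rfl, (h.six_seven w).2]
  have hi := (h.good_Phi 0 0 0 w).idem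
  have hs : ∑ c, dm (P ρ ψ 7 c * Phi ρ ψ 0 0 0 w) = 1 := by
    rw [← hw w hw0]
    exact (dm_split (ρ := ρ) (y := x 7) h.prim hi fun c => h.comm7_Phi c w).symm
  obtain ⟨c, hc⟩ : ∃ c, dm (P ρ ψ 7 c * Phi ρ ψ 0 0 0 w) ≠ 0 := by
    by_contra hc
    push Not at hc
    rw [Finset.sum_eq_zero fun c _ => hc c] at hs
    exact zero_ne_one hs
  obtain ⟨g, hg, -⟩ := exists_unit_pow_ne (F := F) (by omega)
  have hg1 : (g : F) ≠ 1 := fun e => hg (by rw [e, one_pow])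
  have h6 : wt 6 (g ^ 2) g = (1 : F) := by
    rw [wt6, Units.val_pow_eq_pow_val, div_self (pow_ne_zero 2 g.ne_zero)]
  have h7 : wt 7 (g ^ 2) g = (g : F) := by
    rw [wt7, Units.val_pow_eq_pow_val, sq, mul_div_assoc, div_self g.ne_zero, mul_one]
  have hmove : dm (P ρ ψ 7 (c / g) * Phi ρ ψ 0 0 0 w) = dm (P ρ ψ 7 c * Phi ρ ψ 0 0 0 w) := by
    rw [← dm_cj ρ (tor (g ^ 2) g) ((h.idem_P 7 c).mul_of_commute (h.comm7_Phi c w) hi), cj_mul, cj_tor_P, h7,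
      h.cj_tor_Phi, h6]
    simp
  have hc0 : c = 0 := by
    by_contra hc0
    have hne : c ≠ c / g := fun e => hg1 (by
      rw [eq_div_iff g.ne_zero] at e
      exact mul_left_cancel₀ hc0 (e.trans (mul_one c).symm))
    have := Finset.sum_le_univ_sum_of_nonneg (f := fun c => dm (P ρ ψ 7 c * Phi ρ ψ 0 0 0 w))
      (fun _ => Nat.zero_le _) (s := {c, c / g})
    rw [hs, Finset.sum_pair hne, hmove] at this
    omega
  subst hc0
  have := Finset.single_le_sum (f := fun c => dm (P ρ ψ 7 c * Phi ρ ψ 0 0 0 w)) (fun _ _ => Nat.zero_le _)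
    (Finset.mem_univ (0 : F))
  rw [hs] at this
  omega

theorem R0_norm : R0 ρ ψ 0 = P ρ ψ 8 0 * (P ρ ψ 9 0 * (P ρ ψ 10 0 * P ρ ψ 11 0)) ∧
    P ρ ψ 10 0 * P ρ ψ 9 0 * (P ρ ψ 11 0 * P ρ ψ 9 0 * (P ρ ψ 8 0 * P ρ ψ 9 0)) = R0 ρ ψ 0 := by
  obtain ⟨n1, n2⟩ := norm4 (a := P ρ ψ 8 0) (b := P ρ ψ 9 0) (c := P ρ ψ 10 0) (d := P ρ ψ 11 0)
    (h.idem_P 9 0) (h.idem_P 11 0) (c89 (ρ := ρ) (ψ := ψ) 0 0) (P_comm (ρ := ρ) (ψ := ψ) chk_three.1 0 0)
    (P_comm (ρ := ρ) (ψ := ψ) chk_three.2.1 0 0) (P_comm (ρ := ρ) (ψ := ψ) chk_three.2.2.1 0 0)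
    (P_comm (ρ := ρ) (ψ := ψ) chk_three.2.2.2.1 0 0) (P_comm (ρ := ρ) (ψ := ψ) chk_three.2.2.2.2.1 0 0)
  refine ⟨n1, n2.trans ?_⟩
  exact n1.symm

theorem R0_twisted (hψ : ∀ a, ψ (a ^ 3) = ψ a) : R0 (twisted ρ) ψ 0 = R0 ρ ψ 0 := by
  rw [← h.R0_norm.2]
  unfold R0
  simp only [qp, e0]
  rw [proj_twisted_one (ρ := ρ) (ψ := ψ) (r := 10) (s := 8) ⟨sroot_vals.2.2.2.1.1, sroot_vals.2.2.2.1.2⟩,
    proj_twisted_three (ρ := ρ) hψ (r := 8) (s := 10) ⟨sroot_vals.2.2.1.1, sroot_vals.2.2.1.2⟩,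
    proj_twisted_three (ρ := ρ) hψ (r := 9) (s := 11) ⟨sroot_vals.2.1.1, sroot_vals.2.1.2⟩,
    proj_twisted_one (ρ := ρ) (ψ := ψ) (r := 11) (s := 9) ⟨sroot_vals.1.1, sroot_vals.1.2⟩,
    zero_pow three_ne_zero]

/-- The fixed vectors of the radical are determined by those of the unipotent subgroup. -/
theorem fixed_eq (hψ : ∀ a, ψ (a ^ 3) = ψ a) (hq : 9 ≤ Fintype.card F)
    (hk : finrank ℂ V ≤ Fintype.card F ^ 4 + Fintype.card F ^ 2) :
    dm (Phi ρ ψ 0 0 0 0) = ufix ρ ψ + (Fintype.card F - 1) := by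
  have g := h.good_R0 0
  have gt := h.twist.good_R0 0
  have p7 : P (twisted ρ) ψ 7 0 = P ρ ψ 6 0 := by
    rw [proj_twisted_three (ρ := ρ) hψ (r := 7) (s := 6) ⟨sroot_vals.2.2.2.2.2.1, sroot_vals.2.2.2.2.2.2⟩,
      zero_pow three_ne_zero]
  have p6 : P (twisted ρ) ψ 6 0 = P ρ ψ 7 0 :=
    proj_twisted_one (ρ := ρ) (ψ := ψ) (r := 6) (s := 7) ⟨sroot_vals.2.2.2.2.1.1, sroot_vals.2.2.2.2.1.2⟩ 0
  have hf : ufix (twisted ρ) ψ = ufix ρ ψ := by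
    rw [ufix, ufix, p7, Phi_eq_R0, h.twist.qp_mul 0 gt, p6, h.R0_twisted hψ, (h.six_seven 0).2]
  have hs := h.twist.dm_short hψ hq hk
  rw [hf, p7, h.R0_twisted hψ, ← h.qp_mul 0 g] at hs
  exact hs

end Ctx

theorem not_dvd_three {q f N : ℕ} (hq : 9 ≤ q) (hf : f ≤ 2) (hN : N + 2 = q ^ 4 + q ^ 2 + f)
    (hd : N ∣ q ^ 6 * ((q ^ 2 - 1) * (q ^ 6 - 1))) : False := by
  have hq2 : 1 ≤ q ^ 2 := Nat.one_le_pow _ _ (by omega)
  have hq6 : 1 ≤ q ^ 6 := Nat.one_le_pow _ _ (by omega)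
  have hd' : (N : ℤ) ∣ (q : ℤ) ^ 6 * (((q : ℤ) ^ 2 - 1) * ((q : ℤ) ^ 6 - 1)) := by
    have := Int.natCast_dvd_natCast.2 hd
    push_cast [Nat.cast_sub hq2, Nat.cast_sub hq6] at this
    exact this
  have hNz : (N : ℤ) = (q : ℤ) ^ 4 + (q : ℤ) ^ 2 + f - 2 := by
    have : ((N + 2 : ℕ) : ℤ) = ((q ^ 4 + q ^ 2 + f : ℕ) : ℤ) := by rw [hN]
    push_cast at this
    linarith
  set y : ℤ := (q : ℤ) ^ 2 with hy
  have hy81 : 81 ≤ y := by
    have : (9 : ℤ) ≤ q := by exact_mod_cast hq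
    rw [hy]; nlinarith
  rw [show (q : ℤ) ^ 6 = y ^ 3 by rw [hy]; ring] at hd'
  rw [show (q : ℤ) ^ 4 = y ^ 2 by rw [hy]; ring] at hNz
  rcases (show f = 0 ∨ f = 1 ∨ f = 2 by omega) with rfl | rfl | rfl
  · have e : (N : ℤ) = (y - 1) * (y + 2) := by push_cast at hNz; rw [hNz]; ring
    rw [e, show y ^ 3 * ((y - 1) * (y ^ 3 - 1)) = (y - 1) * (y ^ 3 * (y ^ 3 - 1)) by ring] at hd'
    have h1 := (mul_dvd_mul_iff_left (show y - 1 ≠ 0 by omega)).1 hd'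
    have h2 : y + 2 ∣ (72 : ℤ) := by
      have h3 : y + 2 ∣ y ^ 3 * (y ^ 3 - 1) - 72 :=
        ⟨y ^ 5 - 2 * y ^ 4 + 4 * y ^ 3 - 9 * y ^ 2 + 18 * y - 36, by ring⟩
      simpa using dvd_sub h1 h3
    have := Int.le_of_dvd (by norm_num) h2
    omega
  · have e : (N : ℤ) = y ^ 2 + y - 1 := by push_cast at hNz; rw [hNz]; ring
    rw [e] at hd'
    set M := y ^ 2 + y - 1 with hM
    have h1 : M ∣ y ^ 3 * (2 * (2 - 3 * y)) := by
      have h2 : M ∣ y ^ 3 * ((y - 1) * (y ^ 3 - 1)) - y ^ 3 * (2 * (2 - 3 * y)) :=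
        ⟨y ^ 3 * (y ^ 2 - 2 * y + 3), by rw [hM]; ring⟩
      simpa using dvd_sub hd' h2
    have hcy : IsCoprime M y := ⟨-1, y + 1, by rw [hM]; ring⟩
    have h3 := (hcy.pow_right).dvd_of_dvd_mul_left h1
    have hc : IsCoprime M (2 - 3 * y) := ⟨9, 3 * y + 5, by rw [hM]; ring⟩
    have := Int.le_of_dvd (by norm_num) (hc.dvd_of_dvd_mul_right h3)
    nlinarith
  · have e : (N : ℤ) = y * (y + 1) := by push_cast at hNz; rw [hNz]; ring
    rw [e, show y ^ 3 * ((y - 1) * (y ^ 3 - 1)) = y * (y ^ 2 * ((y - 1) * (y ^ 3 - 1))) by ring] at hd'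
    have h1 := (mul_dvd_mul_iff_left (show y ≠ 0 by omega)).1 hd'
    have h2 : y + 1 ∣ (4 : ℤ) := by
      have h3 : y + 1 ∣ y ^ 2 * ((y - 1) * (y ^ 3 - 1)) - 4 :=
        ⟨y ^ 5 - 2 * y ^ 4 + 2 * y ^ 3 - 3 * y ^ 2 + 4 * y - 4, by ring⟩
      simpa using dvd_sub h1 h3
    have := Int.le_of_dvd (by norm_num) h2
    omega

namespace Ctx

variable (h : Ctx ρ ψ)
include h

/-- The bound in characteristic three. -/
theorem bound_three (hψ : ∀ a, ψ (a ^ 3) = ψ a) (hq : 9 ≤ Fintype.card F) :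
    Fintype.card F ^ 4 + Fintype.card F ^ 2 + 1 ≤ finrank ℂ V := by
  by_contra hlt
  have hk : finrank ℂ V ≤ Fintype.card F ^ 4 + Fintype.card F ^ 2 := by omega
  haveI := h.irr
  have e1 := h.finrank_exact hψ hq hk
  have e2 := h.fixed_eq hψ hq hk
  have hd := CfsgLib.Char.degree_dvd_card ρ
  rw [show Nat.card (Grp F) = _ from CfsgLib.Chev.card_groupG2 (F := F)] at hd
  exact not_dvd_three (f := ufix ρ ψ) hq (by omega) (by omega) hd

end Ctx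

end CfsgLib.GTwoMinDeg
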