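import Cfsg.Agent.Lib.GTwoMinDeg.Hecke
import Cfsg.Agent.Lib.GTwoMinDeg.ThreeEnd

/-!
The smallest degree of a nontrivial irreducible representation of `G₂(q)`.
-/

set_option autoImplicit false
set_option linter.unusedSectionVars false

namespace CfsgLib.GTwoMinDeg

open Module Cfsg.Lie

variable {F : Type*} [Field F] [Fintype F] {V : Type*} [AddCommGroup V] [Module ℂ V]
  [FiniteDimensional ℂ V]

/-- The bounds. -/
theorem degree_bound (ρ : Representation ℂ (Grp F) V) (hρ : ρ.IsIrreducible) (hk : 2 ≤ finrank ℂ V) :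
    (Fintype.card F % 3 = 1 → 4 < Fintype.card F → Fintype.card F ^ 3 + 1 ≤ finrank ℂ V) ∧
    (Fintype.card F % 3 = 2 → 2 < Fintype.card F → Fintype.card F ^ 3 - 1 ≤ finrank ℂ V) ∧
    (Fintype.card F % 3 = 0 → 3 < Fintype.card F →
      Fintype.card F ^ 4 + Fintype.card F ^ 2 + 1 ≤ finrank ℂ V) := by
  classical
  obtain ⟨n, hp, hcard⟩ := FiniteField.card F (ringChar F)
  have h3 : Fintype.card F % 3 ≠ 0 → (3 : F) ≠ 0 := by
    intro hne h0
    have hd : ringChar F ∣ 3 := ringChar.dvd (by exact_mod_cast h0)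
    rcases (Nat.dvd_prime Nat.prime_three).1 hd with e | e
    · exact hp.ne_one e
    · exact hne (Nat.dvd_iff_mod_eq_zero.1 (hcard ▸ e.symm ▸ dvd_pow_self _ n.ne_zero))
  refine ⟨fun hm hq => ?_, fun hm hq => ?_, fun hm hq => ?_⟩
  · let ψ := (AddChar.FiniteField.primitiveChar_to_Complex F)
    have hctx : Ctx ρ ψ := ⟨AddChar.FiniteField.primitiveChar_to_Complex_isPrimitive F, hρ, hk, by omega⟩
    have h3' := h3 (by omega)
    by_contra hlt
    have hs := hctx.sharp h3' hq (by omega)
    have hc0 := hctx.fixed_ne_zero h3' hq hm hs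
    have hc : dm (Phi ρ ψ 0 0 0 0) = 1 := by have := hs.c_le; omega
    exact hctx.no_fixed h3' hq (by have := hs.deg; omega) hs hc
  · let ψ := (AddChar.FiniteField.primitiveChar_to_Complex F)
    have hctx : Ctx ρ ψ := ⟨AddChar.FiniteField.primitiveChar_to_Complex_isPrimitive F, hρ, hk, hq⟩
    exact hctx.bound_nonthree (h3 (by omega)) (by omega)
  · have hd : 3 ∣ ringChar F := by
      refine (Nat.prime_three).dvd_of_dvd_pow (n := n) ?_
      rw [← hcard]
      exact Nat.dvd_of_mod_eq_zero hm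
    have he : ringChar F = 3 := ((Nat.prime_dvd_prime_iff_eq Nat.prime_three hp).1 hd).symm
    haveI : CharP F 3 := he ▸ ringChar.charP F
    have h9 : 9 ≤ Fintype.card F := by
      rw [hcard, he] at hq ⊢
      calc 9 = 3 ^ 2 := by norm_num
        _ ≤ 3 ^ (n : ℕ) := Nat.pow_le_pow_right (by norm_num) (by
          by_contra hc
          have : (n : ℕ) = 1 := by have := n.pos; omega
          rw [this] at hq; omega)
    obtain ⟨ψ, hψ, hinv⟩ := exists_cube_char (F := F)
    exact (⟨hψ, hρ, hk, by omega⟩ : Ctx ρ ψ).bound_three hinv h9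

end CfsgLib.GTwoMinDeg
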