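import Cfsg.Agent.Lib.GTwoMinDeg.Good

/-!
The weights of a representation of `G₂(F)` in characteristic other than three.
-/

set_option autoImplicit false
set_option linter.unusedSectionVars false

namespace CfsgLib.GTwoMinDeg

open Module Cfsg.Lie

variable {F : Type*} [Field F] [Fintype F] {V : Type*} [AddCommGroup V] [Module ℂ V]
  [FiniteDimensional ℂ V] {ρ : Representation ℂ (Grp F) V} {ψ : AddChar F ℂ}

theorem sum_split_zero {M : Type*} [AddCommMonoid M] (f : F → M) {c : M}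
    (hf : ∀ a, a ≠ 0 → f a = c) : ∑ a, f a = f 0 + (Fintype.card F - 1) • c := by
  classical
  rw [← Finset.add_sum_erase _ f (Finset.mem_univ (0 : F)),
    Finset.sum_congr rfl fun a ha => hf a (Finset.ne_of_mem_erase ha), Finset.sum_const,
    Finset.card_erase_of_mem (Finset.mem_univ _), Finset.card_univ]

theorem exists_unit_pow_ne (hq : 4 < Fintype.card F) :
    ∃ a : Fˣ, (a : F) ^ 2 ≠ 1 ∧ (a : F) ^ 3 ≠ 1 := by
  classical
  obtain ⟨g, hg⟩ := IsCyclic.exists_generator (α := Fˣ)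
  have ho : orderOf g = Fintype.card F - 1 := by
    rw [orderOf_eq_card_of_forall_mem_zpowers hg, Nat.card_eq_fintype_card, Fintype.card_units]
  refine ⟨g, fun e => ?_, fun e => ?_⟩
  · have := Nat.le_of_dvd (by norm_num) (orderOf_dvd_of_pow_eq_one (n := 2) (x := g) (Units.ext (by simpa using e)))
    omega
  · have := Nat.le_of_dvd (by norm_num) (orderOf_dvd_of_pow_eq_one (n := 3) (x := g) (Units.ext (by simpa using e)))
    omega

/-- The joint projections outside the fixed vectors of the centre. -/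
noncomputable def H3 (ρ : Representation ℂ (Grp F) V) (ψ : AddChar F ℂ) (z X Y : F) : Module.End ℂ V :=
  P ρ ψ 9 X * (P ρ ψ 10 Y * P ρ ψ 11 z)

/-- Their common dimension. -/
noncomputable def mval (ρ : Representation ℂ (Grp F) V) (ψ : AddChar F ℂ) : ℕ := dm (H3 ρ ψ 1 0 0)

theorem chk_facts : chkC (9 : Fin 12) 10 = true ∧ chkC (9 : Fin 12) 11 = true ∧ chkC (10 : Fin 12) 11 = true ∧
    chkC (8 : Fin 12) 10 = true ∧ chkC (8 : Fin 12) 11 = true ∧ chkC (6 : Fin 12) 9 = true ∧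
    chkC (6 : Fin 12) 11 = true ∧ chkC (7 : Fin 12) 10 = true ∧ chkC (7 : Fin 12) 11 = true := by
  decide +kernel

theorem comm_P9 (z X Y : F) : Commute (P ρ ψ 9 X) (P ρ ψ 10 Y * P ρ ψ 11 z) :=
  (P_comm chk_facts.1 _ _).mul_right (P_comm chk_facts.2.1 _ _)

namespace Ctx

variable (h : Ctx ρ ψ)
include h

theorem idem_10_11 (Y z : F) : IsIdempotentElem (P ρ ψ 10 Y * P ρ ψ 11 z) :=
  (h.idem_P 10 Y).mul_of_commute (P_comm chk_facts.2.2.1 _ _) (h.idem_P 11 z)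

theorem idem_H3 (z X Y : F) : IsIdempotentElem (H3 ρ ψ z X Y) :=
  (h.idem_P 9 X).mul_of_commute (comm_P9 z X Y) (h.idem_10_11 Y z)

theorem cj_eight (s z X Y : F) : cj ρ (x 8 s) (H3 ρ ψ z X Y) = H3 ρ ψ z (X - 3 * s * z) Y := by
  simp only [H3, cj_mul, cj_x_P chk_facts.2.2.2.1, cj_x_P chk_facts.2.2.2.2.1]
  refine cj_proj_mul (fun t => ?_) X
  have hE : Eig ρ ψ (x 11) z (P ρ ψ 10 Y * P ρ ψ 11 z) :=
    (rho_mul_proj ρ ψ (x 11) z).mul_left fun t => by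
      exact (rho_comm_P (chkC_11 10 (by simp)).2 t Y)
  rw [conj8_9, map_mul, mul_assoc, hE, mul_smul_comm]
  congr 2
  ring

theorem cj_six (s z X Y : F) : cj ρ (x 6 s) (H3 ρ ψ z X Y) = H3 ρ ψ z X (Y - s * z) := by
  simp only [H3, cj_mul, cj_x_P chk_facts.2.2.2.2.2.1, cj_x_P chk_facts.2.2.2.2.2.2.1]
  congr 1
  refine cj_proj_mul (fun t => ?_) Y
  rw [conj6_10, map_mul, mul_assoc, rho_mul_proj ρ ψ (x 11) z, mul_smul_comm]
  congr 2
  ring

theorem cj_tor_H3 (a d : Fˣ) (z X Y : F) :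
    cj ρ (tor a d) (H3 ρ ψ z X Y) = H3 ρ ψ (z / wt 11 a d) (X / wt 9 a d) (Y / wt 10 a d) := by
  simp only [H3, cj_mul, cj_tor_P]

theorem dm_H3 (h3 : (3 : F) ≠ 0) {z : F} (hz : z ≠ 0) (X Y : F) : dm (H3 ρ ψ z X Y) = mval ρ ψ := by
  have e1 : dm (H3 ρ ψ z X Y) = dm (H3 ρ ψ z 0 Y) := by
    rw [← dm_cj ρ (x 8 (X / (3 * z))) (h.idem_H3 z X Y), h.cj_eight]
    congr 2
    field_simp
    ring
  have e2 : dm (H3 ρ ψ z 0 Y) = dm (H3 ρ ψ z 0 0) := by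
    rw [← dm_cj ρ (x 6 (Y / z)) (h.idem_H3 z 0 Y), h.cj_six]
    congr 2
    field_simp
    ring
  rw [e1, e2, mval, ← dm_cj ρ (tor 1 (Units.mk0 z hz)) (h.idem_H3 z 0 0), h.cj_tor_H3, wt11]
  simp [hz]

theorem dm_10_11 (h3 : (3 : F) ≠ 0) {z : F} (hz : z ≠ 0) (Y : F) :
    dm (P ρ ψ 10 Y * P ρ ψ 11 z) = Fintype.card F * mval ρ ψ := by
  rw [dm_split (ρ := ρ) (y := x 9) h.prim (h.idem_10_11 Y z) fun a => comm_P9 z a Y,
    Finset.sum_congr rfl fun a _ => show dm (proj ρ ψ (x 9) a * (P ρ ψ 10 Y * P ρ ψ 11 z)) = mval ρ ψ from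
      h.dm_H3 h3 hz a Y,
    Finset.sum_const, Finset.card_univ, smul_eq_mul]

theorem dm_P11 (h3 : (3 : F) ≠ 0) {z : F} (hz : z ≠ 0) :
    dm (P ρ ψ 11 z) = Fintype.card F * (Fintype.card F * mval ρ ψ) := by
  rw [dm_split (ρ := ρ) (y := x 10) h.prim (h.idem_P 11 z) fun a => P_comm chk_facts.2.2.1 a z,
    Finset.sum_congr rfl fun a _ => show dm (proj ρ ψ (x 10) a * P ρ ψ 11 z) = _ from h.dm_10_11 h3 hz a,
    Finset.sum_const, Finset.card_univ, smul_eq_mul]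

theorem finrank_eq (h3 : (3 : F) ≠ 0) :
    finrank ℂ V = dm (e0 ρ ψ) + (Fintype.card F - 1) * (Fintype.card F * (Fintype.card F * mval ρ ψ)) := by
  rw [← dm_one, dm_sum (p := fun a => P ρ ψ 11 a) Finset.univ IsIdempotentElem.one (fun a _ => h.idem_P 11 a)
    (sum_proj ρ ψ h.prim (x 11)), sum_split_zero (fun a => dm (P ρ ψ 11 a)) (fun a ha => h.dm_P11 h3 ha),
    smul_eq_mul]

theorem exists_P11 : ∃ z : F, z ≠ 0 ∧ P ρ ψ 11 z ≠ 0 := by
  classical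
  by_contra hc
  push Not at hc
  have he : e0 ρ ψ = 1 := by
    rw [← sum_proj ρ ψ h.prim (x 11), Finset.sum_eq_single (0 : F)]
    · exact fun a _ ha => hc a ha
    · exact fun e => absurd (Finset.mem_univ _) e
  have h1 := rho11_e0 (ρ := ρ) (ψ := ψ) 1
  rw [he, mul_one] at h1
  exact one_ne_zero (x_eq_one (h.injective (h1.trans (map_one ρ).symm)))

theorem mval_pos (h3 : (3 : F) ≠ 0) : 0 < mval ρ ψ := by
  obtain ⟨z, hz, hne⟩ := h.exists_P11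
  have := dm_pos.2 hne
  rw [h.dm_P11 h3 hz] at this
  exact Nat.pos_of_ne_zero fun e => by simp [e] at this

theorem dm_P10 (h3 : (3 : F) ≠ 0) (y : F) :
    dm (P ρ ψ 10 y) = dm (qp ρ ψ 10 y) + (Fintype.card F - 1) * (Fintype.card F * mval ρ ψ) := by
  have hc : ∀ a, Commute (P ρ ψ 11 a) (P ρ ψ 10 y) := fun a => (P_comm chk_facts.2.2.1 y a).symm
  rw [dm_split (ρ := ρ) (y := x 11) h.prim (h.idem_P 10 y) hc,
    Finset.sum_congr rfl fun a _ => show dm (proj ρ ψ (x 11) a * P ρ ψ 10 y) = dm (P ρ ψ 10 y * P ρ ψ 11 a) by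
      rw [(hc a).eq],
    sum_split_zero (fun a => dm (P ρ ψ 10 y * P ρ ψ 11 a)) (fun a ha => h.dm_10_11 h3 ha y), smul_eq_mul]

theorem dm_qp10_ne (h3 : (3 : F) ≠ 0) {y : F} (hy : y ≠ 0) :
    dm (qp ρ ψ 10 y) = Fintype.card F * mval ρ ψ := by
  obtain ⟨e, he, k⟩ := cj_nn_P (ρ := ρ) (ψ := ψ) 1 10 11 refl_vals.2.2.2.2.2.1
  have h1 := h.dm_P10 h3 y
  rw [← dm_cj ρ (nn 1) (h.idem_P 10 y), k, h.dm_P11 h3 (mul_ne_zero he hy)] at h1
  obtain ⟨r, hr⟩ : ∃ r, Fintype.card F = r + 1 := ⟨Fintype.card F - 1, by have := h.big; omega⟩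
  rw [hr, Nat.add_sub_cancel, add_mul, one_mul] at h1
  rw [hr]
  linarith

theorem dm_e0_eq (h3 : (3 : F) ≠ 0) :
    dm (e0 ρ ψ) = dm (qp ρ ψ 10 0) + (Fintype.card F - 1) * (Fintype.card F * mval ρ ψ) := by
  rw [h.good_split inQ10 h.good_e0,
    Finset.sum_congr rfl fun a _ => show dm (qp ρ ψ 10 a * e0 ρ ψ) = dm (qp ρ ψ 10 a) by
      rw [qp, mul_assoc, h.idem_e0.eq],
    sum_split_zero (fun a => dm (qp ρ ψ 10 a)) (fun a ha => h.dm_qp10_ne h3 ha), smul_eq_mul]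

theorem cj_seven (s u y : F) :
    cj ρ (x 7 s) (qp ρ ψ 9 u * qp ρ ψ 10 y) = qp ρ ψ 9 (u - 3 * s * y) * qp ρ ψ 10 y := by
  rw [h.qp_mul u (h.good_qp inQ10 y), h.qp_mul _ (h.good_qp inQ10 y), cj_mul,
    cj_mul ρ (x 7 s) (P ρ ψ 10 y), cj_x_P chk_facts.2.2.2.2.2.2.2.1, cj_x_e0 chk_facts.2.2.2.2.2.2.2.2]
  refine cj_proj_mul (fun t => ?_) u
  rw [conj7_9, map_mul, mul_assoc, (rho_mul_proj ρ ψ (x 10) y).mul_right (e0 ρ ψ), mul_smul_comm]
  congr 2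
  ring

theorem dm_shift (h3 : (3 : F) ≠ 0) {y : F} (hy : y ≠ 0) (u : F) :
    dm (qp ρ ψ 9 u * qp ρ ψ 10 y) = mval ρ ψ := by
  have hu : ∀ u, dm (qp ρ ψ 9 u * qp ρ ψ 10 y) = dm (qp ρ ψ 9 0 * qp ρ ψ 10 y) := fun u => by
    rw [← dm_cj ρ (x 7 (u / (3 * y))) (h.good_mul inQ9 u (h.good_qp inQ10 y)).idem, h.cj_seven]
    congr 3
    field_simp
    ring
  have h1 := h.dm_qp10_ne h3 hy
  rw [h.good_split inQ9 (h.good_qp inQ10 y), Finset.sum_congr rfl fun a _ => hu a, Finset.sum_const,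
    Finset.card_univ, smul_eq_mul] at h1
  rw [hu u]
  exact Nat.eq_of_mul_eq_mul_left Fintype.card_pos h1

/-- With multiplicity one the weights are on the lines of the long roots. -/
theorem dm_Phi_ne (h3 : (3 : F) ≠ 0) (hq : 4 < Fintype.card F) (hm : mval ρ ψ = 1) {y : F} (hy : y ≠ 0) :
    dm (Phi ρ ψ y 0 0 0) = 1 := by
  classical
  have h1 : ∑ p : F × F, dm (Phi ρ ψ y 0 p.1 p.2) = 1 := by
    rw [Fintype.sum_prod_type, ← hm, ← h.dm_shift h3 hy 0, h.good_split inQ8 (h.good_mul inQ9 0 (h.good_qp inQ10 y))]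
    exact Finset.sum_congr rfl fun v _ =>
      (h.good_split inQ6 (h.good_mul inQ8 v (h.good_mul inQ9 0 (h.good_qp inQ10 y)))).symm
  obtain ⟨⟨v, w⟩, hp⟩ : ∃ p : F × F, dm (Phi ρ ψ y 0 p.1 p.2) ≠ 0 := by
    by_contra hc
    push Not at hc
    rw [Finset.sum_eq_zero fun p _ => hc p] at h1
    exact zero_ne_one h1
  obtain ⟨a, ha2, ha3⟩ := exists_unit_pow_ne hq
  have h2 := h.dm_tor_Phi a (a ^ 2) y 0 v w
  rw [wt10, wt9, wt8, wt6, Units.val_pow_eq_pow_val, zero_div, div_self (pow_ne_zero 2 a.ne_zero),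
    div_one, show ((a : F) ^ 2) ^ 2 / a = (a : F) ^ 3 by field_simp] at h2
  have huniq : (v / (a : F) ^ 2, w / (a : F) ^ 3) = (v, w) := by
    by_contra hne
    have := Finset.sum_le_univ_sum_of_nonneg (f := fun p : F × F => dm (Phi ρ ψ y 0 p.1 p.2))
      (fun _ => Nat.zero_le _) (s := {(v / (a : F) ^ 2, w / (a : F) ^ 3), (v, w)})
    rw [h1, Finset.sum_pair hne] at this
    simp only at this
    rw [h2] at this
    simp only at hp
    omega
  obtain ⟨hv, hw⟩ := Prod.ext_iff.1 huniq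
  simp only at hv hw hp
  have hv0 : v = 0 := by
    by_contra hne
    rw [div_eq_iff (pow_ne_zero 2 a.ne_zero)] at hv
    exact ha2 (mul_left_cancel₀ hne (hv.symm.trans (mul_one v).symm))
  have hw0 : w = 0 := by
    by_contra hne
    rw [div_eq_iff (pow_ne_zero 3 a.ne_zero)] at hw
    exact ha3 (mul_left_cancel₀ hne (hw.symm.trans (mul_one w).symm))
  subst hv0 hw0
  have := Finset.single_le_sum (f := fun p : F × F => dm (Phi ρ ψ y 0 p.1 p.2)) (fun _ _ => Nat.zero_le _)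
    (Finset.mem_univ ((0 : F), (0 : F)))
  rw [h1] at this
  simp only at this
  omega

theorem dm_Phi_six (h3 : (3 : F) ≠ 0) (hq : 4 < Fintype.card F) (hm : mval ρ ψ = 1) {w : F} (hw : w ≠ 0) :
    dm (Phi ρ ψ 0 0 0 w) = 1 := by
  obtain ⟨e₁, e₂, e₃, e₄, h1, -, -, -, k⟩ := h.dm_nn0_Phi
  rw [k 0 0 0 w, mul_zero, mul_zero, mul_zero]
  exact h.dm_Phi_ne h3 hq hm (mul_ne_zero h1 hw)

theorem dm_qp10_zero_ge (h3 : (3 : F) ≠ 0) (hq : 4 < Fintype.card F) (hm : mval ρ ψ = 1) :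
    Fintype.card F - 1 + dm (Phi ρ ψ 0 0 0 0) ≤ dm (qp ρ ψ 10 0) := by
  rw [h.dm_qp10 0]
  have h1 : ∀ u : F, ∑ w, dm (Phi ρ ψ 0 u 0 w) ≤ ∑ v, ∑ w, dm (Phi ρ ψ 0 u v w) := fun u =>
    Finset.single_le_sum (f := fun v => ∑ w, dm (Phi ρ ψ 0 u v w)) (fun _ _ => Nat.zero_le _)
      (Finset.mem_univ (0 : F))
  refine le_trans ?_ (le_trans (h1 0) (Finset.single_le_sum
    (f := fun u => ∑ v, ∑ w, dm (Phi ρ ψ 0 u v w)) (fun _ _ => Nat.zero_le _) (Finset.mem_univ (0 : F))))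
  rw [sum_split_zero (fun w => dm (Phi ρ ψ 0 0 0 w)) (fun w hw => h.dm_Phi_six h3 hq hm hw), smul_eq_mul,
    mul_one, add_comm]

/-- The bound in characteristic other than three. -/
theorem bound_nonthree (h3 : (3 : F) ≠ 0) (hq : 4 < Fintype.card F) :
    Fintype.card F ^ 3 - 1 ≤ finrank ℂ V := by
  have hk := h.finrank_eq h3
  have hC := h.dm_e0_eq h3
  have hm := h.mval_pos h3
  obtain ⟨r, hr⟩ : ∃ r, Fintype.card F = r + 1 := ⟨Fintype.card F - 1, by omega⟩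
  rw [hr, Nat.add_sub_cancel] at hC hk
  rw [hr]
  rcases Nat.lt_or_ge 1 (mval ρ ψ) with h2 | h2
  · rw [hk]
    have hr4 : 4 ≤ r := by omega
    have : (r + 1) ^ 3 ≤ r * ((r + 1) * ((r + 1) * mval ρ ψ)) := by
      calc (r + 1) ^ 3 = (r + 1) * ((r + 1) * (r + 1)) := by ring
        _ ≤ (r + 1) * ((r + 1) * (r * 2)) := by gcongr; omega
        _ = r * ((r + 1) * ((r + 1) * 2)) := by ring
        _ ≤ r * ((r + 1) * ((r + 1) * mval ρ ψ)) := by gcongr; omega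
    omega
  · have hm1 : mval ρ ψ = 1 := by omega
    have := h.dm_qp10_zero_ge h3 hq hm1
    rw [hr, Nat.add_sub_cancel] at this
    rw [hm1] at hk hC
    have e : (r + 1) ^ 3 = r * ((r + 1) * ((r + 1) * 1)) + r * ((r + 1) * 1) + r + 1 := by ring
    omega

end Ctx

end CfsgLib.GTwoMinDeg
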