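import Cfsg.Agent.Lib.GTwoMinDeg.NonThree
import Cfsg.Agent.Lib.GTwoMinDeg.CommutingSL3

/-!
The degree `q³ - 1` does not occur for `q ≡ 1 (mod 3)`: the value at an element of order three.
-/

set_option autoImplicit false
set_option linter.unusedSectionVars false

namespace CfsgLib.GTwoMinDeg

open Module Cfsg.Lie

variable {F : Type*} [Field F] [Fintype F] {V : Type*} [AddCommGroup V] [Module ℂ V]
  [FiniteDimensional ℂ V] {ρ : Representation ℂ (Grp F) V} {ψ : AddChar F ℂ}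

/-- The structure of the weights in a representation of degree at most `q³`. -/
structure Sharp (ρ : Representation ℂ (Grp F) V) (ψ : AddChar F ℂ) : Prop where
  m_one : mval ρ ψ = 1
  c_le : dm (Phi ρ ψ 0 0 0 0) ≤ 1
  deg : finrank ℂ V + 1 = Fintype.card F ^ 3 + dm (Phi ρ ψ 0 0 0 0)
  d0_le : dm (qp ρ ψ 10 0) ≤ Fintype.card F
  vanish : ∀ u v w : F, u ≠ 0 ∨ v ≠ 0 → dm (Phi ρ ψ 0 u v w) = 0

namespace Ctx

variable (h : Ctx ρ ψ)
include h

theorem sharp (h3 : (3 : F) ≠ 0) (hq : 4 < Fintype.card F) (hk : finrank ℂ V ≤ Fintype.card F ^ 3) :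
    Sharp ρ ψ := by
  classical
  have hV := h.finrank_eq h3
  have hC := h.dm_e0_eq h3
  have hm := h.mval_pos h3
  obtain ⟨r, hr⟩ : ∃ r, Fintype.card F = r + 1 := ⟨Fintype.card F - 1, by omega⟩
  rw [hr, Nat.add_sub_cancel] at hC hV
  rw [hr] at hk
  have e : (r + 1) ^ 3 = r * ((r + 1) * ((r + 1) * 1)) + r * ((r + 1) * 1) + r + 1 := by ring
  have hm1 : mval ρ ψ = 1 := by
    by_contra hne
    have : r * ((r + 1) * ((r + 1) * 2)) + r * ((r + 1) * 2) ≤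
        r * ((r + 1) * ((r + 1) * mval ρ ψ)) + r * ((r + 1) * mval ρ ψ) := by gcongr <;> omega
    have h4 : r + 1 < r * ((r + 1) * 1) := by
      have : 4 * (r + 1) ≤ r * ((r + 1) * 1) := by rw [mul_one]; gcongr; omega
      omega
    have e2 : r * ((r + 1) * ((r + 1) * 2)) + r * ((r + 1) * 2) =
        2 * (r * ((r + 1) * ((r + 1) * 1))) + 2 * (r * ((r + 1) * 1)) := by ring
    omega
  rw [hm1] at hV hC
  have hd0 : dm (qp ρ ψ 10 0) ≤ r + 1 := by omega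
  have hsum : dm (qp ρ ψ 10 0) = ∑ p : F × F × F, dm (Phi ρ ψ 0 p.1 p.2.1 p.2.2) := by
    rw [h.dm_qp10 0, Fintype.sum_prod_type]
    exact Finset.sum_congr rfl fun u _ => by rw [Fintype.sum_prod_type]
  set f : F × F × F → ℕ := fun p => dm (Phi ρ ψ 0 p.1 p.2.1 p.2.2) with hf
  set S : Finset (F × F × F) := (Finset.univ.erase (0 : F)).image fun w => (0, 0, w) with hS
  have hSsum : ∑ p ∈ S, f p = r := by
    rw [hS, Finset.sum_image fun a _ b _ e => (Prod.ext_iff.1 (Prod.ext_iff.1 e).2).2,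
      Finset.sum_congr rfl fun w hw => show f (0, 0, w) = 1 from h.dm_Phi_six h3 hq hm1 (Finset.ne_of_mem_erase hw),
      Finset.sum_const, Finset.card_erase_of_mem (Finset.mem_univ _), Finset.card_univ, hr, smul_eq_mul, mul_one,
      Nat.add_sub_cancel]
  have hvan : ∀ u v w : F, u ≠ 0 ∨ v ≠ 0 → dm (Phi ρ ψ 0 u v w) = 0 := by
    intro u v w huv
    by_contra hne
    obtain ⟨g, hg2, -⟩ := exists_unit_pow_ne hq
    have hg : (g : F) ≠ 1 := fun e => hg2 (by rw [e, one_pow])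
    obtain ⟨a, d, hmove⟩ : ∃ a d : Fˣ, (u / wt 9 a d ≠ u ∨ v / wt 8 a d ≠ v) := by
      rcases huv with hu | hv
      · refine ⟨g, 1, Or.inl fun e => hg ?_⟩
        rw [wt9, div_eq_iff g.ne_zero] at e
        exact mul_left_cancel₀ hu (e.symm.trans (mul_one u).symm)
      · refine ⟨1, g, Or.inr fun e => hg ?_⟩
        rw [wt8, div_eq_iff g.ne_zero] at e
        exact mul_left_cancel₀ hv (e.symm.trans (mul_one v).symm)
    have h2 := h.dm_tor_Phi a d 0 u v w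
    rw [zero_div] at h2
    set p₂ : F × F × F := (u / wt 9 a d, v / wt 8 a d, w / wt 6 a d) with hp₂
    have hne2 : (u, v, w) ≠ p₂ := fun e => by
      rcases hmove with h | h
      · exact h (Prod.ext_iff.1 e).1.symm
      · exact h (Prod.ext_iff.1 (Prod.ext_iff.1 e).2).1.symm
    have hoff : ∀ u' v' w' : F, u' ≠ 0 ∨ v' ≠ 0 → (u', v', w') ∉ S := fun u' v' w' h' hmem => by
      simp only [hS, Finset.mem_image, Prod.mk.injEq] at hmem
      obtain ⟨_, _, e1, e2, -⟩ := hmem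
      rcases h' with h' | h' <;> simp_all
    have hle := Finset.sum_le_univ_sum_of_nonneg (f := f) (fun _ => Nat.zero_le _)
      (s := insert (u, v, w) (insert p₂ S))
    rw [← hsum, Finset.sum_insert, Finset.sum_insert, hSsum] at hle
    · simp only [hf, hp₂] at hle
      rw [h2] at hle
      omega
    · exact hoff _ _ _ (huv.imp (fun h => div_ne_zero h (wt_ne_zero _ _ _))
        fun h => div_ne_zero h (wt_ne_zero _ _ _))
    · simp only [Finset.mem_insert, not_or]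
      exact ⟨hne2, hoff u v w huv⟩
  have hd : dm (qp ρ ψ 10 0) = r + dm (Phi ρ ψ 0 0 0 0) := by
    rw [hsum, ← hSsum, ← Finset.sum_subset (s₁ := insert ((0 : F), (0 : F), (0 : F)) S) (Finset.subset_univ _),
      Finset.sum_insert, add_comm]
    · simp [hS]
    · rintro ⟨u, v, w⟩ - hp
      refine hvan u v w ?_
      by_contra hc
      push Not at hc
      obtain ⟨rfl, rfl⟩ := hc
      apply hp
      by_cases hw : w = 0
      · simp [hw]
      · simp [hS, hw]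
  exact ⟨hm1, by omega, by rw [hr]; omega, by rw [hr]; exact hd0, hvan⟩

/-! ### The element of order three -/

theorem commute_tor {a d : Fˣ} {r : Fin 12} (hw : wt r a d = (1 : F)) (t : F) :
    tor a d * x r t = x r t * tor a d := by
  have := tor_conj r a d t
  rwa [hw, one_mul, mul_inv_eq_iff_eq_mul] at this

theorem trace_one_z {w : Fˣ} (h3 : (3 : F) ≠ 0) (hw : w ^ 3 = 1) (hw1 : w ≠ 1) {z : F} (hz : z ≠ 0) :
    tr (ρ (tor w w⁻¹) * P ρ ψ 11 z) = Fintype.card F * tr (ρ (tor w w⁻¹) * H3 ρ ψ 1 0 0) := by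
  have hwF : (w : F) ^ 3 = 1 := by rw [← Units.val_pow_eq_pow_val, hw, Units.val_one]
  have h11 : wt 11 w w⁻¹ = (1 : F) := by simp [wt11]
  have h9 : wt 9 w w⁻¹ ≠ (1 : F) := by rw [wt9]; simpa using hw1
  have h10 : wt 10 w w⁻¹ = (1 : F) := by
    rw [wt10, Units.val_inv_eq_inv_val, div_inv_eq_mul, ← hwF]; ring
  have h6 : wt 6 w w⁻¹ = (1 : F) := by
    rw [wt6, Units.val_inv_eq_inv_val, inv_pow, inv_div_left, inv_eq_one, ← hwF]; ring
  have hfix : ∀ {r : Fin 12}, wt r w w⁻¹ = (1 : F) → ∀ b, cj ρ (tor w w⁻¹) (P ρ ψ r b) = P ρ ψ r b :=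
    fun {r} hr b => by rw [cj_tor_P, hr, div_one]
  rw [tr_split (ρ := ρ) h.prim (x 10)]
  have key : ∀ Y : F, tr (ρ (tor w w⁻¹) * (proj ρ ψ (x 10) Y * P ρ ψ 11 z)) =
      tr (ρ (tor w w⁻¹) * H3 ρ ψ 1 0 0) := by
    intro Y
    rw [tr_split_zero (ρ := ρ) (ψ := ψ) h.prim (y := x 9) (h.idem_10_11 Y z)
      (by rw [cj_mul, hfix h10, hfix h11]) (fun a => comm_P9 z a Y) (wt_ne_zero 9 w w⁻¹) h9 (tor_conj 9 w w⁻¹)]
    show tr (ρ (tor w w⁻¹) * H3 ρ ψ z 0 Y) = _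
    rw [← tr_cj ρ (x 6 (Y / z)) (ρ (tor w w⁻¹) * H3 ρ ψ z 0 Y), cj_mul, h.cj_six, cj_rho,
      ← commute_tor h h6, mul_inv_cancel_right, div_mul_cancel₀ Y hz, sub_self]
    rw [← tr_cj ρ (tor 1 (Units.mk0 z hz)) (ρ (tor w w⁻¹) * H3 ρ ψ z 0 0), cj_mul, h.cj_tor_H3, cj_rho,
      tor_commute, mul_inv_cancel_right, wt11]
    simp [hz]
  rw [Finset.sum_congr rfl fun Y _ => key Y, Finset.sum_const, Finset.card_univ, nsmul_eq_mul]

/-- The value at the element of order three. -/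
theorem value_three {w : Fˣ} (h3 : (3 : F) ≠ 0) (hq : 4 < Fintype.card F) (hw : w ^ 3 = 1) (hw1 : w ≠ 1)
    (hs : Sharp ρ ψ) {ω : ℂ} (hω : IsPrimitiveRoot ω 3) :
    ∃ n : Fin 3 → ℕ, ∃ s : Fin 3 → ℕ, n 0 + n 1 + n 2 = 1 ∧ s 0 + s 1 + s 2 + 1 ≤ 2 * Fintype.card F ∧
      ρ.character (tor w w⁻¹) = ((Fintype.card F - 1 : ℕ) : ℂ) * ((Fintype.card F : ℂ) *
        ((n 0 : ℂ) + n 1 * ω + n 2 * (ω * ω))) + ((s 0 : ℂ) + s 1 * ω + s 2 * (ω * ω)) := by
  classical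
  have hwF : (w : F) ^ 3 = 1 := by rw [← Units.val_pow_eq_pow_val, hw, Units.val_one]
  have h11 : wt 11 w w⁻¹ = (1 : F) := by simp [wt11]
  have h9 : wt 9 w w⁻¹ ≠ (1 : F) := by rw [wt9]; simpa using hw1
  have h8 : wt 8 w w⁻¹ ≠ (1 : F) := by rw [wt8]; simpa using hw1
  have h10 : wt 10 w w⁻¹ = (1 : F) := by
    rw [wt10, Units.val_inv_eq_inv_val, div_inv_eq_mul, ← hwF]; ring
  set t := tor w w⁻¹ with ht
  have hU : ρ t * ρ t * ρ t = 1 := by
    rw [← map_mul, ← map_mul, ht, tor_mul, tor_mul,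
      show w * w * w = 1 by rw [← hw, pow_succ, pow_two],
      show w⁻¹ * w⁻¹ * w⁻¹ = 1 by rw [← _root_.mul_inv_rev, ← _root_.mul_inv_rev, inv_eq_one, ← mul_assoc,
        ← hw, pow_succ, pow_two],
      tor_one, map_one]
  have hH : cj ρ t (H3 ρ ψ 1 0 0) = H3 ρ ψ 1 0 0 := by
    rw [h.cj_tor_H3, h11, h10, zero_div, zero_div, div_one]
  obtain ⟨n0, n1, n2, hn, hnv⟩ := tr_order_three hU (h.idem_H3 1 0 0) (commute_rho_of_cj ρ hH) hω
  set E : Module.End ℂ V := qp ρ ψ 8 0 * qp ρ ψ 9 0 with hE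
  have hgE : Good ρ ψ E := h.good_mul inQ8 0 (h.good_qp inQ9 0)
  have hcE : cj ρ t E = E := by
    rw [hE, cj_mul, h.cj_tor_qp, h.cj_tor_qp, zero_div, zero_div]
  obtain ⟨s0, s1, s2, hsn, hsv⟩ := tr_order_three hU hgE.idem (commute_rho_of_cj ρ hcE) hω
  have hEdim : dm E + 1 ≤ 2 * Fintype.card F := by
    rw [h.good_split inQ10 hgE]
    have hb : ∀ Y : F, dm (qp ρ ψ 10 Y * E) ≤ dm (qp ρ ψ 9 0 * qp ρ ψ 10 Y) := fun Y => by
      rw [hE, ← mul_assoc, (qp_comm inQ10 inQ8 Y 0).eq, mul_assoc, (qp_comm inQ10 inQ9 Y 0).eq]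
      exact h.good_dm_le inQ8 0 (h.good_mul inQ9 0 (h.good_qp inQ10 Y))
    have h0 : dm (qp ρ ψ 10 0 * E) ≤ Fintype.card F :=
      (hb 0).trans ((h.good_dm_le inQ9 0 (h.good_qp inQ10 0)).trans hs.d0_le)
    rw [← Finset.add_sum_erase _ _ (Finset.mem_univ (0 : F))]
    have h1 : ∑ Y ∈ Finset.univ.erase (0 : F), dm (qp ρ ψ 10 Y * E) ≤ ∑ _Y ∈ Finset.univ.erase (0 : F), 1 :=
      Finset.sum_le_sum fun Y hY => (hb Y).trans (le_of_eq
        ((h.dm_shift h3 (Finset.ne_of_mem_erase hY) 0).trans hs.m_one))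
    rw [Finset.sum_const, Finset.card_erase_of_mem (Finset.mem_univ _), Finset.card_univ, smul_eq_mul,
      mul_one] at h1
    omega
  refine ⟨![n0, n1, n2], ![s0, s1, s2], by simpa [mval] using hn.trans hs.m_one, ?_, ?_⟩
  · simp only [Matrix.cons_val_zero, Matrix.cons_val_one, Matrix.cons_val]
    omega
  · simp only [Matrix.cons_val_zero, Matrix.cons_val_one, Matrix.cons_val]
    rw [← hnv, ← hsv]
    show tr (ρ t) = _
    rw [show tr (ρ t) = tr (ρ t * 1) by rw [mul_one], tr_split (ρ := ρ) h.prim (x 11)]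
    simp only [mul_one]
    rw [← Finset.add_sum_erase _ _ (Finset.mem_univ (0 : F)),
      Finset.sum_congr rfl fun z hz => h.trace_one_z h3 hw hw1 (Finset.ne_of_mem_erase hz),
      Finset.sum_const, Finset.card_erase_of_mem (Finset.mem_univ _), Finset.card_univ, nsmul_eq_mul, add_comm]
    congr 1
    rw [tr_split_zero (ρ := ρ) (ψ := ψ) h.prim (y := x 9) h.idem_e0 (by rw [cj_tor_P_zero])
      (fun a => h.comm_P inQ9 a h.good_e0) (wt_ne_zero 9 w w⁻¹) h9 (tor_conj 9 w w⁻¹)]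
    show tr (ρ t * qp ρ ψ 9 0) = _
    rw [tr_split_zero (ρ := ρ) (ψ := ψ) h.prim (y := x 8) (h.idem_qp inQ9 0)
      (by rw [h.cj_tor_qp, zero_div]) (fun a => h.comm_P inQ8 a (h.good_qp inQ9 0)) (wt_ne_zero 8 w w⁻¹) h8
      (tor_conj 8 w w⁻¹), ← h.qp_mul 0 (h.good_qp inQ9 0)]

end Ctx

theorem gcd_class {q k s : ℕ} (hs : s ∣ 3 * (q ^ 3 * (q ^ 3 + 1))) (hk : k + 1 = q ^ 3) :
    s.gcd k ∣ 6 := by
  refine (Nat.gcd_dvd_gcd_of_dvd_left k hs).trans ?_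
  refine (Nat.gcd_mul_left_dvd_mul_gcd _ _ _).trans ?_
  refine mul_dvd_mul (Nat.gcd_dvd_left 3 k) ?_ |>.trans (dvd_refl (3 * 2))
  refine (Nat.gcd_mul_left_dvd_mul_gcd _ _ _).trans ?_
  rw [← hk]
  have h1 : (k + 1).gcd k = 1 := by simp
  rw [h1, one_mul, show k + 1 + 1 = 2 + k by ring, Nat.gcd_add_self_left]
  exact Nat.gcd_dvd_left 2 k

theorem norm_triple_le {ω : ℂ} (hω : IsPrimitiveRoot ω 3) (a b c : ℕ) :
    ‖(a : ℂ) + b * ω + c * (ω * ω)‖ ≤ a + b + c := by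
  have h1 : ‖ω‖ = 1 := hω.norm'_eq_one (by norm_num)
  refine (norm_add₃_le).trans ?_
  simp [h1]

theorem conj_triple {ω : ℂ} (hω : IsPrimitiveRoot ω 3) (a b c : ℕ) :
    ((a : ℂ) + b * ω + c * (ω * ω)) * (starRingEnd ℂ) ((a : ℂ) + b * ω + c * (ω * ω)) =
      (((a : ℤ) ^ 2 + b ^ 2 + c ^ 2 - a * b - b * c - c * a : ℤ) : ℂ) := by
  have hs : (1 : ℂ) + ω + ω * ω = 0 := by
    have := hω.geom_sum_eq_zero (by norm_num)
    simpa [Finset.sum_range_succ, sq] using this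
  have h3 : ω ^ 3 = 1 := hω.pow_eq_one
  have hc : (starRingEnd ℂ) ω = ω * ω := by
    rw [← Complex.inv_eq_conj (hω.norm'_eq_one (by norm_num))]
    exact inv_eq_of_mul_eq_one_right (by linear_combination h3)
  simp only [map_add, map_mul, Complex.conj_natCast, hc]
  push_cast
  grind

namespace Ctx

variable (h : Ctx ρ ψ)
include h

/-- The degree `q³ - 1` does not occur. -/
theorem fixed_ne_zero (h3 : (3 : F) ≠ 0) (hq : 4 < Fintype.card F) (hmod : Fintype.card F % 3 = 1)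
    (hs : Sharp ρ ψ) : dm (Phi ρ ψ 0 0 0 0) ≠ 0 := by
  classical
  intro hc
  haveI := h.irr
  have hdeg := hs.deg
  rw [hc, add_zero] at hdeg
  have h3q : 3 ∣ Nat.card Fˣ := by
    rw [Nat.card_eq_fintype_card, Fintype.card_units]; omega
  haveI : Fact (Nat.Prime 3) := ⟨Nat.prime_three⟩
  obtain ⟨w, hw⟩ := exists_prime_orderOf_dvd_card' 3 h3q
  have hw3 : w ^ 3 = 1 := hw ▸ pow_orderOf_eq_one w
  have hw1 : w ≠ 1 := fun e => by rw [e, orderOf_one] at hw; omega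
  obtain ⟨ω, hω⟩ : ∃ ω : ℂ, IsPrimitiveRoot ω 3 := ⟨_, Complex.isPrimitiveRoot_exp 3 (by norm_num)⟩
  obtain ⟨n, s, hn, hsb, hv⟩ := h.value_three h3 hq hw3 hw1 hs hω
  set q := Fintype.card F with hqdef
  set t := tor w w⁻¹
  set χ := ρ.character t with hχ
  have hint : IsIntegral ℤ χ := CfsgLib.Char.isIntegral_character ρ t
  have hom := CfsgLib.Char.isIntegral_omega ρ t
  rw [CfsgLib.Char.omega, Representation.char_one, ← hχ] at hom
  set k := finrank ℂ V with hkdef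
  set idx := (Subgroup.centralizer ({t} : Set (Grp F))).index with hidx
  have hg := gcd_class (k := k) (index_dvd (w := w) hw3) hdeg
  rw [← hidx] at hg
  set g := idx.gcd k with hgdef
  have hk0 : (k : ℂ) ≠ 0 := Nat.cast_ne_zero.2 (by have := h.two; omega)
  have hy : IsIntegral ℤ ((g : ℂ) * χ / k) := by
    have hbez := Nat.gcd_eq_gcd_ab idx k
    have e : (g : ℂ) = (idx : ℂ) * (Nat.gcdA idx k : ℂ) + (k : ℂ) * (Nat.gcdB idx k : ℂ) := by
      exact_mod_cast congrArg (fun z : ℤ => (z : ℂ)) hbez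
    rw [show (g : ℂ) * χ / k =
      (Nat.gcdA idx k : ℂ) * ((idx : ℂ) * χ / k) + (Nat.gcdB idx k : ℂ) * χ by rw [e]; field_simp]
    exact ((isIntegral_algebraMap (x := Nat.gcdA idx k)).mul hom).add
      ((isIntegral_algebraMap (x := Nat.gcdB idx k)).mul hint)
  -- the norm
  have hN : ∃ N : ℤ, χ * (starRingEnd ℂ) χ = N := by
    obtain ⟨N, hN⟩ : ∃ N : ℕ → ℕ → ℕ → ℤ, ∀ a b c : ℕ,
        ((a : ℂ) + b * ω + c * (ω * ω)) * (starRingEnd ℂ) ((a : ℂ) + b * ω + c * (ω * ω)) = N a b c :=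
      ⟨fun a b c => (a : ℤ) ^ 2 + b ^ 2 + c ^ 2 - a * b - b * c - c * a, conj_triple hω⟩
    refine ⟨N ((q - 1) * q * n 0 + s 0) ((q - 1) * q * n 1 + s 1) ((q - 1) * q * n 2 + s 2), ?_⟩
    rw [hv, show ((q - 1 : ℕ) : ℂ) * ((q : ℂ) * ((n 0 : ℂ) + n 1 * ω + n 2 * (ω * ω))) +
        ((s 0 : ℂ) + s 1 * ω + s 2 * (ω * ω)) =
      ((((q - 1) * q * n 0 + s 0 : ℕ) : ℂ)) + (((q - 1) * q * n 1 + s 1 : ℕ) : ℂ) * ω +
        (((q - 1) * q * n 2 + s 2 : ℕ) : ℂ) * (ω * ω) by push_cast; ring]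
    exact hN _ _ _
  obtain ⟨N, hN⟩ := hN
  have hprod := hy.mul (CfsgLib.Char.isIntegral_conj hy)
  rw [map_div₀, map_mul, Complex.conj_natCast, Complex.conj_natCast,
    show (g : ℂ) * χ / k * ((g : ℂ) * (starRingEnd ℂ) χ / k) =
      (((g : ℚ) ^ 2 * N / (k : ℚ) ^ 2 : ℚ) : ℂ) by push_cast; rw [← hN]; ring] at hprod
  obtain ⟨M, hM⟩ := CfsgLib.Char.exists_int_of_isIntegral_rat hprod
  have hNR : (N : ℝ) = ‖χ‖ ^ 2 := by
    have h1 := hN
    rw [Complex.mul_conj'] at h1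
    exact_mod_cast h1.symm
  have hzeta : ‖(n 0 : ℂ) + n 1 * ω + n 2 * (ω * ω)‖ = 1 := by
    have h1 : ‖ω‖ = 1 := hω.norm'_eq_one (by norm_num)
    rcases (show (n 0 = 1 ∧ n 1 = 0 ∧ n 2 = 0) ∨ (n 0 = 0 ∧ n 1 = 1 ∧ n 2 = 0) ∨
      (n 0 = 0 ∧ n 1 = 0 ∧ n 2 = 1) by omega) with ⟨a, b, c⟩ | ⟨a, b, c⟩ | ⟨a, b, c⟩ <;>
      simp [a, b, c, h1]
  have hq7 : 7 ≤ q := by omega
  have htau : ‖(s 0 : ℂ) + s 1 * ω + s 2 * (ω * ω)‖ ≤ 2 * (q : ℝ) - 1 := by
    have h1 := norm_triple_le hω (s 0) (s 1) (s 2)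
    have h2 : ((s 0 + s 1 + s 2 + 1 : ℕ) : ℝ) ≤ ((2 * q : ℕ) : ℝ) := by exact_mod_cast hsb
    push_cast at h2
    linarith
  set A : ℝ := ((q - 1 : ℕ) : ℝ) * q with hA
  have hmain : ‖((q - 1 : ℕ) : ℂ) * ((q : ℂ) * ((n 0 : ℂ) + n 1 * ω + n 2 * (ω * ω)))‖ = A := by
    simp only [norm_mul, Complex.norm_natCast, hzeta, mul_one, hA]
  have hA' : A = ((q : ℝ) - 1) * q := by rw [hA, Nat.cast_sub (by omega), Nat.cast_one]
  have hlow : 0 < ‖χ‖ := by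
    have h1 := norm_sub_le_norm_add (((q - 1 : ℕ) : ℂ) * ((q : ℂ) * ((n 0 : ℂ) + n 1 * ω + n 2 * (ω * ω))))
      ((s 0 : ℂ) + s 1 * ω + s 2 * (ω * ω))
    rw [← hv, hmain] at h1
    have h7 : (7 : ℝ) ≤ q := by exact_mod_cast hq7
    nlinarith
  have hup : (g : ℝ) * ‖χ‖ < k := by
    have h1 := norm_add_le (((q - 1 : ℕ) : ℂ) * ((q : ℂ) * ((n 0 : ℂ) + n 1 * ω + n 2 * (ω * ω))))
      ((s 0 : ℂ) + s 1 * ω + s 2 * (ω * ω))
    rw [← hv, hmain] at h1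
    have h7 : (7 : ℝ) ≤ q := by exact_mod_cast hq7
    have hg6 : (g : ℝ) ≤ 6 := by exact_mod_cast Nat.le_of_dvd (by norm_num) hg
    have hk' : (k : ℝ) + 1 = (q : ℝ) ^ 3 := by exact_mod_cast hdeg
    have hb : ‖χ‖ ≤ (q : ℝ) ^ 2 + q := by linarith [show A = (q : ℝ) ^ 2 - q by rw [hA']; ring]
    have h2 : (g : ℝ) * ‖χ‖ ≤ 6 * ((q : ℝ) ^ 2 + q) :=
      mul_le_mul hg6 hb (norm_nonneg _) (by norm_num)
    nlinarith [mul_le_mul_of_nonneg_left h7 (show (0 : ℝ) ≤ (q : ℝ) ^ 2 by positivity)]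
  have hg0 : (0 : ℝ) < g := by
    have : 0 < g := Nat.pos_of_ne_zero fun e => by simp [e] at hg
    exact_mod_cast this
  have hMR : (M : ℝ) = ((g : ℝ) * ‖χ‖ / k) ^ 2 := by
    rw [div_pow, mul_pow, ← hNR]
    exact_mod_cast congrArg (fun z : ℚ => (z : ℝ)) hM.symm
  have hkR : (0 : ℝ) < k := by exact_mod_cast (show 0 < k by have := h.two; omega)
  have hpos : (0 : ℝ) < M := by rw [hMR]; positivity
  have hlt : (M : ℝ) < 1 := by
    rw [hMR]
    exact pow_lt_one₀ (by positivity) ((div_lt_one hkR).2 hup) two_ne_zero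
  have : (0 : ℤ) < M := by exact_mod_cast hpos
  have : M < 1 := by exact_mod_cast hlt
  omega

end Ctx

end CfsgLib.GTwoMinDeg
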