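import Mathlib

/-!
Weight projections of one-parameter subgroups in a representation, and the dimensions of idempotent
operators.
-/

set_option autoImplicit false
set_option linter.unusedSectionVars false

namespace CfsgLib.GTwoMinDeg

open Module

section Idem

variable {V : Type*} [AddCommGroup V] [Module ℂ V] [FiniteDimensional ℂ V]

/-- The dimension of the range of an operator. -/
noncomputable def dm (e : Module.End ℂ V) : ℕ := finrank ℂ (LinearMap.range e)

/-- The trace of an operator. -/
noncomputable abbrev tr (e : Module.End ℂ V) : ℂ := LinearMap.trace ℂ V e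

theorem tr_eq_dm {e : Module.End ℂ V} (he : IsIdempotentElem e) : tr e = dm e :=
  LinearMap.IsProj.trace ((LinearMap.isProj_range_iff_isIdempotentElem e).mpr he)

theorem dm_eq_zero {e : Module.End ℂ V} : dm e = 0 ↔ e = 0 := by
  rw [dm, Submodule.finrank_eq_zero, LinearMap.range_eq_bot]

theorem dm_pos {e : Module.End ℂ V} : 0 < dm e ↔ e ≠ 0 := by
  rw [Nat.pos_iff_ne_zero]; exact dm_eq_zero.not

theorem dm_one : dm (1 : Module.End ℂ V) = finrank ℂ V := by
  rw [dm, show (1 : Module.End ℂ V) = LinearMap.id from rfl, LinearMap.range_id, finrank_top]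

/-- An idempotent that is a sum of idempotents has as dimension the sum of the dimensions. -/
theorem dm_sum {ι : Type*} (s : Finset ι) {p : ι → Module.End ℂ V} {e : Module.End ℂ V}
    (he : IsIdempotentElem e) (hp : ∀ i ∈ s, IsIdempotentElem (p i)) (h : ∑ i ∈ s, p i = e) :
    dm e = ∑ i ∈ s, dm (p i) := by
  have h1 := congrArg tr h
  simp only [tr, map_sum] at h1
  rw [Finset.sum_congr rfl fun i hi => tr_eq_dm (hp i hi)] at h1
  rw [show LinearMap.trace ℂ V e = (dm e : ℂ) from tr_eq_dm he] at h1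
  exact_mod_cast h1.symm

/-- Sandwiching by an idempotent of rank one. -/
theorem sandwich {e : Module.End ℂ V} (he : IsIdempotentElem e) (h1 : dm e = 1) (X : Module.End ℂ V) :
    e * X * e = tr (e * X) • e := by
  obtain ⟨⟨v, hv⟩, hv0, hspan⟩ := finrank_eq_one_iff'.mp h1
  have hev : e v = v := by
    obtain ⟨u, rfl⟩ := hv
    rw [← Module.End.mul_apply, he.eq]
  have hfac : ∃ c : V →ₗ[ℂ] ℂ, ∀ w, e w = c w • v := by
    choose c hc using fun w => hspan ⟨e w, LinearMap.mem_range_self e w⟩
    have hc' : ∀ w, c w • v = e w := fun w => congrArg Subtype.val (hc w)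
    have hne : v ≠ 0 := fun h => hv0 (Subtype.ext h)
    refine ⟨{ toFun := c, map_add' := fun a b => ?_, map_smul' := fun r a => ?_ }, fun w => (hc' w).symm⟩
    · refine smul_left_injective ℂ hne ?_
      simp only [add_smul, hc', map_add]
    · refine smul_left_injective ℂ hne ?_
      simp only [RingHom.id_apply, smul_eq_mul, mul_smul, hc', map_smul]
  obtain ⟨c, hc⟩ := hfac
  have htr : tr (e * X) = c (X v) := by
    have : e * X = (c.comp X).smulRight v := LinearMap.ext fun w => by
      simp [Module.End.mul_apply, hc]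
    rw [tr, this, LinearMap.trace_smulRight, LinearMap.comp_apply]
  refine LinearMap.ext fun w => ?_
  rw [htr, Module.End.mul_apply, Module.End.mul_apply, LinearMap.smul_apply, hc w, map_smul, map_smul,
    hc (X v), smul_comm]

theorem isIdempotentElem_mul {a b : Module.End ℂ V} (ha : IsIdempotentElem a) (hb : IsIdempotentElem b)
    (h : Commute a b) : IsIdempotentElem (a * b) := ha.mul_of_commute h hb

end Idem

variable {G : Type*} [Group G] {V : Type*} [AddCommGroup V] [Module ℂ V]
  (ρ : Representation ℂ G V)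

/-- Conjugation of an operator by an element. -/
noncomputable def cj (g : G) (X : Module.End ℂ V) : Module.End ℂ V := ρ g * X * ρ g⁻¹

theorem rho_inv_mul (g : G) : ρ g⁻¹ * ρ g = 1 := by rw [← map_mul, inv_mul_cancel, map_one]

theorem rho_mul_inv (g : G) : ρ g * ρ g⁻¹ = 1 := by rw [← map_mul, mul_inv_cancel, map_one]

@[simp] theorem cj_mul (g : G) (X Y : Module.End ℂ V) : cj ρ g (X * Y) = cj ρ g X * cj ρ g Y := by
  simp only [cj, mul_assoc]
  rw [← mul_assoc (ρ g⁻¹) (ρ g), rho_inv_mul, one_mul]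

theorem cj_sum {ι : Type*} (s : Finset ι) (g : G) (p : ι → Module.End ℂ V) :
    cj ρ g (∑ i ∈ s, p i) = ∑ i ∈ s, cj ρ g (p i) := by
  simp only [cj, Finset.mul_sum, Finset.sum_mul]

theorem cj_smul (g : G) (c : ℂ) (X : Module.End ℂ V) : cj ρ g (c • X) = c • cj ρ g X := by
  simp only [cj, Algebra.mul_smul_comm, Algebra.smul_mul_assoc]

theorem cj_rho (g h : G) : cj ρ g (ρ h) = ρ (g * h * g⁻¹) := by
  rw [cj, map_mul, map_mul]

theorem cj_cj (g h : G) (X : Module.End ℂ V) : cj ρ g (cj ρ h X) = cj ρ (g * h) X := by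
  simp only [cj, map_mul, _root_.mul_inv_rev, mul_assoc]

theorem cj_one (X : Module.End ℂ V) : cj ρ 1 X = X := by simp [cj]

theorem rho_mul_eq_cj_mul (g : G) (X : Module.End ℂ V) : ρ g * X = cj ρ g X * ρ g := by
  rw [cj, mul_assoc _ (ρ g⁻¹), rho_inv_mul, mul_one]

theorem commute_rho_of_cj {g : G} {X : Module.End ℂ V} (h : cj ρ g X = X) : Commute (ρ g) X := by
  show ρ g * X = X * ρ g
  rw [rho_mul_eq_cj_mul, h]

theorem cj_of_commute {g : G} {X : Module.End ℂ V} (h : Commute (ρ g) X) : cj ρ g X = X := by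
  rw [cj, h.eq, mul_assoc, rho_mul_inv, mul_one]

theorem isIdempotentElem_cj (g : G) {X : Module.End ℂ V} (h : IsIdempotentElem X) :
    IsIdempotentElem (cj ρ g X) := by rw [IsIdempotentElem, ← cj_mul, h.eq]

variable [FiniteDimensional ℂ V]

theorem tr_cj (g : G) (X : Module.End ℂ V) : tr (cj ρ g X) = tr X := by
  rw [tr, cj, LinearMap.trace_mul_comm, ← mul_assoc, rho_inv_mul, one_mul]

theorem dm_cj (g : G) {X : Module.End ℂ V} (h : IsIdempotentElem X) : dm (cj ρ g X) = dm X := by
  have h1 : (dm (cj ρ g X) : ℂ) = dm X := by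
    rw [← tr_eq_dm h, ← tr_eq_dm (isIdempotentElem_cj ρ g h), tr_cj]
  exact_mod_cast h1

/-- An element moving an idempotent to an orthogonal one has trace zero on it. -/
theorem tr_rho_mul_eq_zero {g : G} {e e' : Module.End ℂ V} (he : IsIdempotentElem e)
    (hg : cj ρ g e = e') (h : e * e' = 0) : tr (ρ g * e) = 0 := by
  have h1 : ρ g * e = (e' * ρ g) * e := by
    rw [← hg, ← rho_mul_eq_cj_mul, mul_assoc, he.eq]
  rw [tr, h1, LinearMap.trace_mul_comm, ← mul_assoc, h, zero_mul, map_zero]

section Proj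

variable {F : Type*} [Field F] [Fintype F] (ψ : AddChar F ℂ)

/-- The weight projection of a one-parameter subgroup. -/
noncomputable def proj (x : AddChar F G) (a : F) : Module.End ℂ V :=
  (Fintype.card F : ℂ)⁻¹ • ∑ t, ψ (-(a * t)) • ρ (x t)

/-- A one-parameter subgroup acts on the range of an operator by a character. -/
def Eig (x : AddChar F G) (b : F) (E : Module.End ℂ V) : Prop := ∀ t, ρ (x t) * E = ψ (b * t) • E

variable {ρ ψ}

theorem Eig.mul_right {x : AddChar F G} {b : F} {E : Module.End ℂ V} (h : Eig ρ ψ x b E)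
    (X : Module.End ℂ V) : Eig ρ ψ x b (E * X) := fun t => by
  rw [← mul_assoc, h t, smul_mul_assoc]

theorem Eig.mul_left {x : AddChar F G} {b : F} {E : Module.End ℂ V} (h : Eig ρ ψ x b E)
    {X : Module.End ℂ V} (hX : ∀ t, Commute (ρ (x t)) X) : Eig ρ ψ x b (X * E) := fun t => by
  rw [← mul_assoc, (hX t).eq, mul_assoc, h t, mul_smul_comm]

variable (ρ ψ)

theorem rho_mul_proj (x : AddChar F G) (a : F) : Eig ρ ψ x a (proj ρ ψ x a) := by
  intro s
  rw [proj, mul_smul_comm, smul_comm]
  congr 1
  rw [Finset.mul_sum, Finset.smul_sum]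
  refine Fintype.sum_equiv (Equiv.addLeft s) _ _ fun t => ?_
  rw [mul_smul_comm, ← map_mul, ← AddChar.map_add_eq_mul, smul_smul, Equiv.coe_addLeft]
  congr 1
  rw [← AddChar.map_add_eq_mul]
  congr 1
  ring

theorem commute_rho_proj {g : G} {x : AddChar F G} (h : ∀ t, g * x t = x t * g) (a : F) :
    Commute (ρ g) (proj ρ ψ x a) := by
  unfold proj
  refine Commute.smul_right (Commute.sum_right _ _ _ fun t _ => Commute.smul_right ?_ _) _
  show ρ g * ρ (x t) = ρ (x t) * ρ g
  rw [← map_mul, ← map_mul, h]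

theorem commute_proj_left {X : Module.End ℂ V} {x : AddChar F G} (h : ∀ t, Commute (ρ (x t)) X) (a : F) :
    Commute (proj ρ ψ x a) X :=
  show Commute ((Fintype.card F : ℂ)⁻¹ • ∑ t, ψ (-(a * t)) • ρ (x t)) X from
  Commute.smul_left (Commute.sum_left _ _ _ fun t _ => Commute.smul_left (h t) _) _

theorem commute_proj_proj {x y : AddChar F G} (h : ∀ t u, x t * y u = y u * x t) (a b : F) :
    Commute (proj ρ ψ x a) (proj ρ ψ y b) :=
  commute_proj_left ρ ψ (fun t => commute_rho_proj ρ ψ (h t) b) a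

theorem proj_mul_of_eig (hψ : ψ.IsPrimitive) {x : AddChar F G} {b : F} {E : Module.End ℂ V}
    (h : Eig ρ ψ x b E) (a : F) [Decidable (a = b)] :
    proj ρ ψ x a * E = if a = b then E else 0 := by
  classical
  rw [proj, smul_mul_assoc, Finset.sum_mul]
  rw [Finset.sum_congr rfl fun t _ => show (ψ (-(a * t)) • ρ (x t)) * E = ψ (t * (b - a)) • E by
    rw [smul_mul_assoc, h t, smul_smul, ← AddChar.map_add_eq_mul]; congr 2; ring]
  rw [← Finset.sum_smul, AddChar.sum_mulShift _ hψ, smul_smul]
  by_cases hab : a = b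
  · rw [if_pos hab, if_pos (sub_eq_zero.mpr hab.symm), inv_mul_cancel₀, one_smul]
    exact Nat.cast_ne_zero.mpr Fintype.card_ne_zero
  · rw [if_neg hab, if_neg (sub_ne_zero.mpr (Ne.symm hab))]
    simp

theorem isIdempotentElem_proj (hψ : ψ.IsPrimitive) (x : AddChar F G) (a : F) :
    IsIdempotentElem (proj ρ ψ x a) := by
  classical
  rw [IsIdempotentElem, proj_mul_of_eig ρ ψ hψ (rho_mul_proj ρ ψ x a), if_pos rfl]

theorem proj_orth (hψ : ψ.IsPrimitive) (x : AddChar F G) {a b : F} (h : a ≠ b) :
    proj ρ ψ x a * proj ρ ψ x b = 0 := by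
  classical
  rw [proj_mul_of_eig ρ ψ hψ (rho_mul_proj ρ ψ x b), if_neg h]

theorem sum_proj (hψ : ψ.IsPrimitive) (x : AddChar F G) : ∑ a, proj ρ ψ x a = 1 := by
  classical
  simp only [proj]
  rw [← Finset.smul_sum, Finset.sum_comm]
  simp only [← Finset.sum_smul]
  rw [Finset.sum_eq_single (0 : F)]
  · simp only [mul_zero, neg_zero, AddChar.map_zero_eq_one, map_one, Finset.sum_const,
      Finset.card_univ, nsmul_eq_mul, mul_one]
    rw [smul_smul, inv_mul_cancel₀ (Nat.cast_ne_zero.mpr Fintype.card_ne_zero), one_smul]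
  · intro t _ ht
    rw [show ∑ a : F, ψ (-(a * t)) = ∑ a : F, ψ (a * (-t - 0)) by simp,
      AddChar.sum_mulShift _ hψ, if_neg (by simpa using ht)]
    simp
  · exact fun h => absurd (Finset.mem_univ _) h

variable {ρ ψ}

/-- The projections move as the subgroups do. -/
theorem cj_proj {g : G} {x x' : AddChar F G} {c : F} (hc : c ≠ 0)
    (h : ∀ t, g * x t * g⁻¹ = x' (c * t)) (a : F) :
    cj ρ g (proj ρ ψ x a) = proj ρ ψ x' (a / c) := by
  rw [proj, proj, cj_smul, cj_sum]
  congr 1
  refine Fintype.sum_equiv (Equiv.mulLeft₀ c hc) _ _ fun t => ?_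
  rw [cj_smul, cj_rho, h, Equiv.mulLeft₀_apply]
  congr 2
  field_simp

/-- The projections are shifted where the error acts by a character. -/
theorem cj_proj_mul {g : G} {x x' : AddChar F G} {d : F} {E : Module.End ℂ V}
    (h : ∀ t, ρ (g * x t * g⁻¹) * E = ψ (d * t) • (ρ (x' t) * E)) (a : F) :
    cj ρ g (proj ρ ψ x a) * E = proj ρ ψ x' (a - d) * E := by
  rw [proj, proj, cj_smul, cj_sum, smul_mul_assoc, smul_mul_assoc, Finset.sum_mul, Finset.sum_mul]
  congr 1
  refine Finset.sum_congr rfl fun t _ => ?_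
  rw [cj_smul, cj_rho, smul_mul_assoc, h, smul_smul, smul_mul_assoc, ← AddChar.map_add_eq_mul]
  congr 2
  ring

end Proj

/-- An element of order dividing three on an idempotent commuting with it. -/
theorem tr_order_three {U E : Module.End ℂ V} (hU : U * U * U = 1) (hE : IsIdempotentElem E)
    (hc : Commute U E) {w : ℂ} (hw : IsPrimitiveRoot w 3) :
    ∃ n0 n1 n2 : ℕ, n0 + n1 + n2 = dm E ∧ tr (U * E) = n0 + n1 * w + n2 * (w * w) := by
  have hs : (1 : ℂ) + w + w * w = 0 := by
    have := hw.geom_sum_eq_zero (by norm_num)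
    simpa [Finset.sum_range_succ, sq] using this
  have h3 : w * w * w = 1 := by
    have := hw.pow_eq_one
    linear_combination this
  let P : ℂ → Module.End ℂ V := fun z => (3 : ℂ)⁻¹ • (1 + (z * z) • U + z • (U * U))
  have hP : ∀ z : ℂ, z * z * z = 1 → IsIdempotentElem (P z) := fun z hz => by
    show P z * P z = P z
    simp only [P, smul_mul_assoc, mul_smul_comm, mul_add, add_mul, one_mul, mul_one, smul_smul, ← mul_assoc,
      hU]
    match_scalars <;> grind
  have hcP : ∀ z : ℂ, Commute (P z) E := fun z =>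
    Commute.smul_left (((Commute.one_left E).add_left (hc.smul_left _)).add_left
      ((hc.mul_left hc).smul_left _)) _
  have hid : ∀ z : ℂ, z * z * z = 1 → IsIdempotentElem (P z * E) := fun z hz =>
    (hP z hz).mul_of_commute (hcP z) hE
  have hsum : P 1 + P w + P (w * w) = 1 := by
    simp only [P]
    match_scalars <;> grind
  have hexp : P 1 + w • P w + (w * w) • P (w * w) = U := by
    simp only [P]
    match_scalars <;> grind
  refine ⟨dm (P 1 * E), dm (P w * E), dm (P (w * w) * E), ?_, ?_⟩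
  · have h := congrArg tr (show P 1 * E + P w * E + P (w * w) * E = E by
      rw [← add_mul, ← add_mul, hsum, one_mul])
    simp only [tr, map_add] at h
    rw [show LinearMap.trace ℂ V (P 1 * E) = _ from tr_eq_dm (hid 1 (by ring)),
      show LinearMap.trace ℂ V (P w * E) = _ from tr_eq_dm (hid w h3),
      show LinearMap.trace ℂ V (P (w * w) * E) = _ from tr_eq_dm (hid (w * w) (by grind)),
      show LinearMap.trace ℂ V E = _ from tr_eq_dm hE] at h
    exact_mod_cast h
  · rw [show tr (U * E) = tr (P 1 * E + w • (P w * E) + (w * w) • (P (w * w) * E)) by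
      rw [← smul_mul_assoc, ← smul_mul_assoc, ← add_mul, ← add_mul, hexp], tr, map_add, map_add, map_smul,
      map_smul, show LinearMap.trace ℂ V (P 1 * E) = _ from tr_eq_dm (hid 1 (by ring)),
      show LinearMap.trace ℂ V (P w * E) = _ from tr_eq_dm (hid w h3),
      show LinearMap.trace ℂ V (P (w * w) * E) = _ from tr_eq_dm (hid (w * w) (by grind))]
    simp [mul_comm]

attribute [irreducible] proj

end CfsgLib.GTwoMinDeg
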