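import Cfsg.Agent.Lib.ClassSquare.GTwoBase

/-!
Root subgroups, torus and Weyl elements of `G₂(F)` as elements of the group.
-/

set_option autoImplicit false
set_option linter.unusedSectionVars false
set_option maxRecDepth 100000

namespace CfsgLib.GTwoMinDeg

open Cfsg.Lie CfsgLib.Chev CfsgLib.Chev.Cert
open CfsgLib.ClassSquare.GTwo (E lt_n tab_facts comm_formula E_comm)

variable {F : Type*} [Field F]

/-- The group. -/
abbrev Grp (F : Type*) [Field F] : Type _ := ↥(chevG2.group F)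

/-- The root subgroups. -/
noncomputable def x (r : Fin 12) : AddChar F (Grp F) where
  toFun t := ⟨X chevG2 (r : ℕ) t, certG2.X_mem_group (lt_n r.2) t⟩
  map_zero_eq_one' := Subtype.ext (certG2.X_zero (lt_n r.2))
  map_add_eq_mul' a b := Subtype.ext (certG2.X_add (lt_n r.2) a b).symm

theorem coe_x (r : Fin 12) (t : F) : (x r t : GL chevG2.Idx F) = E (r : ℕ) t := rfl

theorem x_mem_iff (r : Fin 12) {H : Subgroup (GL chevG2.Idx F)} (t : F) :
    x r t ∈ H.subgroupOf (chevG2.group F) ↔ E (r : ℕ) t ∈ H := Iff.rfl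

theorem x_eq_one {r : Fin 12} {t : F} (h : x r t = 1) : t = 0 :=
  (certG2.X_eq_one_iff (lt_n r.2) t).1 (congrArg Subtype.val h)

/-- The roots commute. -/
noncomputable def chkC (r s : Fin 12) : Bool :=
  decide (r = s) || (decide ((s : ℕ) ≠ tabG2.neg r) && decide (tabG2.commTerms r s = []))

theorem x_comm (r s : Fin 12) (h : chkC r s = true) (t u : F) : x r t * x s u = x s u * x r t := by
  simp only [chkC, Bool.or_eq_true, Bool.and_eq_true, decide_eq_true_eq] at h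
  by_cases he : r = s
  · subst he
    rw [← AddChar.map_add_eq_mul, ← AddChar.map_add_eq_mul, add_comm]
  obtain ⟨h1, h2⟩ := h.resolve_left he
  exact Subtype.ext (E_comm _ _ (lt_n r.2) (lt_n s.2) (fun e => he (Fin.ext e.symm)) h1 h2 t u)

theorem conj6_10 (s t : F) : x 6 s * x 10 t * (x 6 s)⁻¹ = x 10 t * x 11 (s * t) := by
  refine Subtype.ext ?_
  have := comm_formula (F := F) 6 10 (lt_n (by omega)) (lt_n (by omega)) (by decide) (by decide +kernel)
    (L := [(11, 1, 1, 1)]) (by decide +kernel) s t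
  simpa [coe_x] using this

theorem conj8_9 (s t : F) : x 8 s * x 9 t * (x 8 s)⁻¹ = x 9 t * x 11 (3 * s * t) := by
  refine Subtype.ext ?_
  have := comm_formula (F := F) 8 9 (lt_n (by omega)) (lt_n (by omega)) (by decide) (by decide +kernel)
    (L := [(11, 3, 1, 1)]) (by decide +kernel) s t
  simpa [coe_x] using this

theorem conj7_9 (s t : F) : x 7 s * x 9 t * (x 7 s)⁻¹ = x 9 t * x 10 (3 * s * t) := by
  refine Subtype.ext ?_
  have := comm_formula (F := F) 7 9 (lt_n (by omega)) (lt_n (by omega)) (by decide) (by decide +kernel)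
    (L := [(10, 3, 1, 1)]) (by decide +kernel) s t
  simpa [coe_x] using this

theorem conj7_8 (s t : F) : x 7 s * x 8 t * (x 7 s)⁻¹ =
    x 8 t * x 9 (-2 * s * t) * x 10 (-3 * s ^ 2 * t) * x 11 (3 * s * t ^ 2) := by
  refine Subtype.ext ?_
  have := comm_formula (F := F) 7 8 (lt_n (by omega)) (lt_n (by omega)) (by decide) (by decide +kernel)
    (L := [(9, -2, 1, 1), (10, -3, 2, 1), (11, 3, 1, 2)]) (by decide +kernel) s t
  simpa [coe_x, mul_assoc] using this

theorem conj7_6 (s t : F) : x 7 s * x 6 t * (x 7 s)⁻¹ =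
    x 6 t * x 8 (-(s * t)) * x 9 (s ^ 2 * t) * x 10 (s ^ 3 * t) * x 11 (s ^ 3 * t ^ 2) := by
  refine Subtype.ext ?_
  have := comm_formula (F := F) 7 6 (lt_n (by omega)) (lt_n (by omega)) (by decide) (by decide +kernel)
    (L := [(8, -1, 1, 1), (9, 1, 2, 1), (10, 1, 3, 1), (11, 1, 3, 2)]) (by decide +kernel) s t
  simpa [coe_x, mul_assoc] using this

theorem conj4_8 (s t : F) : x 4 s * x 8 t * (x 4 s)⁻¹ = x 8 t * x 6 (-3 * s * t) := by
  refine Subtype.ext ?_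
  have := comm_formula (F := F) 4 8 (lt_n (by omega)) (lt_n (by omega)) (by decide) (by decide +kernel)
    (L := [(6, -3, 1, 1)]) (by decide +kernel) s t
  simpa [coe_x, mul_assoc] using this

theorem conj4_9 (s t : F) : x 4 s * x 9 t * (x 4 s)⁻¹ =
    x 9 t * x 8 (-2 * s * t) * x 6 (3 * s ^ 2 * t) * x 11 (-3 * s * t ^ 2) := by
  refine Subtype.ext ?_
  have := comm_formula (F := F) 4 9 (lt_n (by omega)) (lt_n (by omega)) (by decide) (by decide +kernel)
    (L := [(8, -2, 1, 1), (6, 3, 2, 1), (11, -3, 1, 2)]) (by decide +kernel) s t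
  simpa [coe_x, mul_assoc] using this

theorem conj4_10 (s t : F) : x 4 s * x 10 t * (x 4 s)⁻¹ =
    x 10 t * x 9 (s * t) * x 8 (-(s ^ 2 * t)) * x 6 (s ^ 3 * t) * x 11 (-(s ^ 3 * t ^ 2)) := by
  refine Subtype.ext ?_
  have := comm_formula (F := F) 4 10 (lt_n (by omega)) (lt_n (by omega)) (by decide) (by decide +kernel)
    (L := [(9, 1, 1, 1), (8, -1, 2, 1), (6, 1, 3, 1), (11, -1, 3, 2)]) (by decide +kernel) s t
  simpa [coe_x, mul_assoc] using this

/-! ### The torus -/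

/-- The parameters of the torus element with values `a`, `d` on the roots `9`, `8`. -/
def torPar (a d : Fˣ) : Fin tabG2.l → Fˣ := fun i => if (i : ℕ) = 0 then a else a * d

theorem torusHom_mem_group (c : Fin tabG2.l → Fˣ) :
    torusHom (D := chevG2) (T := tabG2) c ∈ chevG2.group F :=
  certG2.diagonal_le_group (certG2.range_torusHom.le ⟨c, rfl⟩)

/-- The torus. -/
noncomputable def tor (a d : Fˣ) : Grp F := ⟨_, torusHom_mem_group (torPar a d)⟩

theorem coe_tor (a d : Fˣ) :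
    (tor a d : GL chevG2.Idx F) = torusHom (D := chevG2) (T := tabG2) (torPar a d) := rfl

theorem tor_mul (a d a' d' : Fˣ) : tor a d * tor a' d' = tor (a * a') (d * d') := by
  refine Subtype.ext ?_
  rw [Subgroup.coe_mul, coe_tor, coe_tor, coe_tor, ← map_mul]
  congr 1
  funext i
  simp only [Pi.mul_apply, torPar]
  split_ifs
  · rfl
  · exact mul_mul_mul_comm _ _ _ _

theorem tor_one : tor (1 : Fˣ) 1 = 1 := by
  refine Subtype.ext ?_
  rw [coe_tor, show torPar (1 : Fˣ) 1 = 1 from funext fun i => by simp [torPar], map_one]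
  rfl

theorem tor_commute (a d a' d' : Fˣ) : tor a d * tor a' d' = tor a' d' * tor a d := by
  rw [tor_mul, tor_mul, mul_comm a, mul_comm d]

/-- The characters of the roots. -/
noncomputable def wt (r : Fin 12) (a d : Fˣ) : F :=
  (a : F) ^ tabG2.car 0 r * ((a * d : Fˣ) : F) ^ tabG2.car 1 r

theorem wt_ne_zero (r : Fin 12) (a d : Fˣ) : wt r a d ≠ 0 :=
  mul_ne_zero (zpow_ne_zero _ a.ne_zero) (zpow_ne_zero _ (a * d).ne_zero)

theorem tor_conj (r : Fin 12) (a d : Fˣ) (t : F) :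
    tor a d * x r t * (tor a d)⁻¹ = x r (wt r a d * t) := by
  refine Subtype.ext ?_
  simp only [Subgroup.coe_mul, Subgroup.coe_inv, coe_x, coe_tor]
  rw [CfsgLib.ClassSquare.torus_conj certG2 _ (lt_n r.2)]
  congr 2
  unfold CfsgLib.ClassSquare.chi' charOf
  rw [show Finset.range tabG2.l = {0, 1} by rw [tab_facts.2.1]; decide, Finset.prod_pair (by decide)]
  have h2 : 0 < tabG2.l ∧ 1 < tabG2.l := by rw [tab_facts.2.1]; decide
  simp [extC, h2.1, h2.2, torPar, wt]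

theorem car_vals : (tabG2.car 0 4 = -2 ∧ tabG2.car 1 4 = 1) ∧ (tabG2.car 0 6 = -3 ∧ tabG2.car 1 6 = 2) ∧
    (tabG2.car 0 7 = 2 ∧ tabG2.car 1 7 = -1) ∧ (tabG2.car 0 8 = -1 ∧ tabG2.car 1 8 = 1) ∧
    (tabG2.car 0 9 = 1 ∧ tabG2.car 1 9 = 0) ∧ (tabG2.car 0 10 = 3 ∧ tabG2.car 1 10 = -1) ∧
    (tabG2.car 0 11 = 0 ∧ tabG2.car 1 11 = 1) := by
  decide +kernel

theorem wt6 (a d : Fˣ) : wt 6 a d = (d : F) ^ 2 / a := by
  rw [wt, show (((6 : Fin 12)) : ℕ) = 6 from rfl, car_vals.2.1.1, car_vals.2.1.2]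
  have := a.ne_zero
  simp [zpow_ofNat]
  field_simp

theorem wt7 (a d : Fˣ) : wt 7 a d = (a : F) / d := by
  rw [wt, show (((7 : Fin 12)) : ℕ) = 7 from rfl, car_vals.2.2.1.1, car_vals.2.2.1.2]
  have := a.ne_zero
  simp [zpow_ofNat]
  field_simp

theorem wt8 (a d : Fˣ) : wt 8 a d = (d : F) := by
  rw [wt, show (((8 : Fin 12)) : ℕ) = 8 from rfl, car_vals.2.2.2.1.1, car_vals.2.2.2.1.2]
  have := a.ne_zero
  simp

theorem wt9 (a d : Fˣ) : wt 9 a d = (a : F) := by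
  rw [wt, show (((9 : Fin 12)) : ℕ) = 9 from rfl, car_vals.2.2.2.2.1.1, car_vals.2.2.2.2.1.2]
  simp

theorem wt10 (a d : Fˣ) : wt 10 a d = (a : F) ^ 2 / d := by
  rw [wt, show (((10 : Fin 12)) : ℕ) = 10 from rfl, car_vals.2.2.2.2.2.1.1, car_vals.2.2.2.2.2.1.2]
  have := a.ne_zero
  simp [zpow_ofNat]
  field_simp

theorem wt11 (a d : Fˣ) : wt 11 a d = (a : F) * d := by
  rw [wt, show (((11 : Fin 12)) : ℕ) = 11 from rfl, car_vals.2.2.2.2.2.2.1, car_vals.2.2.2.2.2.2.2]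
  simp

theorem tor_of_par (c : Fin tabG2.l → Fˣ) :
    ∃ a d : Fˣ, (tor a d : GL chevG2.Idx F) = torusHom (D := chevG2) (T := tabG2) c := by
  have h2 : 0 < tabG2.l ∧ 1 < tabG2.l := by rw [tab_facts.2.1]; decide
  refine ⟨c ⟨0, h2.1⟩, c ⟨1, h2.2⟩ / c ⟨0, h2.1⟩, ?_⟩
  rw [coe_tor]
  congr 1
  funext i
  have hi : (i : ℕ) < 2 := lt_of_lt_of_eq i.2 tab_facts.2.1
  rcases (show (i : ℕ) = 0 ∨ (i : ℕ) = 1 by omega) with e | e
  · rw [torPar, if_pos e]; congr 1; exact Fin.ext e.symm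
  · rw [torPar, if_neg (by omega), show i = ⟨1, h2.2⟩ from Fin.ext e]
    exact mul_div_cancel _ _

theorem exists_tor {g : Grp F} (hg : (g : GL chevG2.Idx F) ∈ chevG2.diagonalSubgroup F) :
    ∃ a d : Fˣ, g = tor a d := by
  obtain ⟨c, hc⟩ := certG2.range_torusHom.ge hg
  obtain ⟨a, d, h⟩ := tor_of_par c
  exact ⟨a, d, Subtype.ext (hc.symm.trans h.symm)⟩

theorem tor_mem_diagonal (a d : Fˣ) : (tor a d : GL chevG2.Idx F) ∈ chevG2.diagonalSubgroup F :=
  certG2.range_torusHom.le ⟨_, rfl⟩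

/-! ### The Weyl elements -/

/-- The Weyl elements of the simple roots. -/
noncomputable def nn (i : Fin 2) : Grp F :=
  ⟨nS chevG2 F (i : ℕ), certG2.monomial_le_group (certG2.nS_mem_monomial
    (lt_of_lt_of_eq i.2 tab_facts.2.1.symm))⟩

theorem coe_nn (i : Fin 2) : (((nn i : Grp F)) : GL chevG2.Idx F) = nS chevG2 F (i : ℕ) := rfl

theorem nn_conj (i : Fin 2) (r s : Fin 12) (h : tabG2.refl i r = (s : ℕ)) :
    ∃ e : F, (e = 1 ∨ e = -1) ∧ ∀ t, nn i * x r t * (nn i)⁻¹ = x s (e * t) := by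
  refine ⟨(tabG2.eta i r : F), ?_, fun t => Subtype.ext ?_⟩
  · rcases tabG2.eta_cases i r with e | e <;> simp [e]
  · simp only [Subgroup.coe_mul, Subgroup.coe_inv, coe_x, coe_nn]
    rw [certG2.nS_conj_X (lt_of_lt_of_eq i.2 tab_facts.2.1.symm) (lt_n r.2), h]

/-- Exchanging the long roots `10` and `11`. -/
theorem nn_one_conj_tor (a : Fˣ) : nn 1 * tor a 1 * (nn 1)⁻¹ = tor a a := by
  refine Subtype.ext ?_
  simp only [Subgroup.coe_mul, Subgroup.coe_inv, coe_nn, coe_tor]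
  have hl : (1 : ℕ) < tabG2.l := by rw [tab_facts.2.1]; decide
  have hv : tabG2.cor 10 0 = 1 ∧ tabG2.cor 10 1 = 1 ∧ tabG2.cor 11 0 = 1 ∧ tabG2.cor 11 1 = 2 ∧
      rword tabG2 [1] 10 = 11 := by decide +kernel
  have key : ∀ (r : ℕ) (b : Fˣ), r < 12 → (torPar a b : Fin tabG2.l → Fˣ) =
      (fun i : Fin tabG2.l => a ^ tabG2.cor r i) →
      torusHom (D := chevG2) (T := tabG2) (torPar a b) = hU chevG2 r (a : F) := fun r b hr e => by
    rw [e, certG2.hU_eq_torusHom (lt_n hr)]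
  have fi : ∀ i : Fin tabG2.l, (i : ℕ) = 0 ∨ (i : ℕ) = 1 := fun i => by
    have hi : (i : ℕ) < 2 := lt_of_lt_of_eq i.2 tab_facts.2.1
    omega
  rw [key 10 1 (by omega) (funext fun i => by rcases fi i with e | e <;> simp [torPar, e, hv]),
    key 11 a (by omega) (funext fun i => by
      rcases fi i with e | e <;> simp [torPar, e, hv, zpow_ofNat, sq])]
  have h1 := certG2.nW_conj_hU (F := F) (w := [1]) (fun i hi => by
    rw [List.mem_singleton.1 hi]; exact hl) (lt_n (show (10 : ℕ) < 12 by omega)) a.ne_zero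
  rw [hv.2.2.2.2] at h1
  simpa [nW] using h1

/-- The short root torus. -/
theorem tor_short_mem {H : Subgroup (Grp F)} (h7 : ∀ t, x 7 t ∈ H) (h4 : ∀ t, x 4 t ∈ H) (a : Fˣ) :
    tor a a⁻¹ ∈ H ∧ nn 0 ∈ H := by
  have hv : tabG2.cor 7 0 = 1 ∧ tabG2.cor 7 1 = 0 ∧ chevG2.neg 7 = 4 ∧ chevG2.simple 0 = 7 := by
    decide +kernel
  have hn : ∀ u : F, ∃ g ∈ H, (g : GL chevG2.Idx F) = nU chevG2 7 u := fun u =>
    ⟨x 7 u * x 4 (-u⁻¹) * x 7 u, mul_mem (mul_mem (h7 _) (h4 _)) (h7 _), by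
      simp [nU, hv.2.2.1, coe_x]⟩
  constructor
  · obtain ⟨g, hg, eg⟩ := hn (a : F)
    obtain ⟨g', hg', eg'⟩ := hn (-1)
    convert mul_mem hg hg' using 1
    refine Subtype.ext ?_
    rw [Subgroup.coe_mul, eg, eg', coe_tor,
      show (torPar a a⁻¹ : Fin tabG2.l → Fˣ) = fun i : Fin tabG2.l => a ^ tabG2.cor 7 i from funext fun i => by
        have hi : (i : ℕ) < 2 := lt_of_lt_of_eq i.2 tab_facts.2.1
        rcases (show (i : ℕ) = 0 ∨ (i : ℕ) = 1 by omega) with e | e <;> simp [torPar, e, hv]]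
    exact (certG2.hU_eq_torusHom (lt_n (by omega)) a).symm
  · obtain ⟨g, hg, eg⟩ := hn 1
    convert hg
    refine Subtype.ext ?_
    rw [eg, coe_nn, nS]
    simp [hv.2.2.2]

/-- The group is generated by the simple root subgroups and the Weyl elements. -/
theorem eq_top_of {H : Subgroup (Grp F)} (h7 : ∀ t, x 7 t ∈ H) (h6 : ∀ t, x 6 t ∈ H)
    (hn : ∀ i, nn i ∈ H) : H = ⊤ := by
  obtain ⟨-, hl, -, hs0, hs1, -⟩ := tab_facts
  have hle : chevG2.group F ≤ H.map (chevG2.group F).subtype := by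
    refine certG2.group_le_of (fun i hi t => ?_) fun i hi => ?_
    · rw [hl] at hi
      rcases (show i = 0 ∨ i = 1 by omega) with rfl | rfl
      · rw [hs0]; exact ⟨x 7 t, h7 t, rfl⟩
      · rw [hs1]; exact ⟨x 6 t, h6 t, rfl⟩
    · rw [hl] at hi
      exact ⟨nn ⟨i, hi⟩, hn _, rfl⟩
  refine eq_top_iff.2 fun g _ => ?_
  obtain ⟨g', hg', e⟩ := hle g.2
  rwa [show g = g' from Subtype.ext e.symm]

end CfsgLib.GTwoMinDeg
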