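import Cfsg.Agent.Lib.GTwoMinDeg.Proj
import Cfsg.Agent.Lib.GTwoMinDeg.Roots
import Cfsg.Agent.Lib.Chev.All
import Cfsg.Agent.Lib.Char.Central
import Cfsg.Agent.S1055

/-!
The weight projections of the root subgroups of `G₂(F)` in a representation.
-/

set_option autoImplicit false
set_option linter.unusedSectionVars false

namespace CfsgLib.GTwoMinDeg

open Module Cfsg.Lie

variable {F : Type*} [Field F] [Fintype F]

section Generic

variable {G : Type*} [Group G] {V : Type*} [AddCommGroup V] [Module ℂ V] [FiniteDimensional ℂ V]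
  {ρ : Representation ℂ G V} {ψ : AddChar F ℂ}

theorem dm_split (hψ : ψ.IsPrimitive) {y : AddChar F G} {E : Module.End ℂ V} (hE : IsIdempotentElem E)
    (hc : ∀ a, Commute (proj ρ ψ y a) E) : dm E = ∑ a, dm (proj ρ ψ y a * E) :=
  dm_sum _ hE (fun a _ => (isIdempotentElem_proj ρ ψ hψ y a).mul_of_commute (hc a) hE)
    (by rw [← Finset.sum_mul, sum_proj ρ ψ hψ, one_mul])

theorem tr_split (hψ : ψ.IsPrimitive) (y : AddChar F G) (X E : Module.End ℂ V) :
    tr (X * E) = ∑ a, tr (X * (proj ρ ψ y a * E)) := by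
  rw [tr, ← map_sum, ← Finset.mul_sum, ← Finset.sum_mul, sum_proj ρ ψ hψ, one_mul]

/-- Only the weight zero contributes to the trace of an element scaling the subgroup. -/
theorem tr_split_zero (hψ : ψ.IsPrimitive) {y : AddChar F G} {E : Module.End ℂ V} {g : G} {c : F}
    (hE : IsIdempotentElem E) (hg : cj ρ g E = E) (hc : ∀ a, Commute (proj ρ ψ y a) E)
    (h0 : c ≠ 0) (h1 : c ≠ 1) (h : ∀ t, g * y t * g⁻¹ = y (c * t)) :
    tr (ρ g * E) = tr (ρ g * (proj ρ ψ y 0 * E)) := by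
  classical
  rw [tr_split hψ y, Finset.sum_eq_single (0 : F) _ fun e => absurd (Finset.mem_univ _) e]
  intro a _ ha
  refine tr_rho_mul_eq_zero ρ ((isIdempotentElem_proj ρ ψ hψ y a).mul_of_commute (hc a) hE)
    (e' := proj ρ ψ y (a / c) * E) (by rw [cj_mul, hg, cj_proj h0 h]) ?_
  have hne : a ≠ a / c := fun e => h1 (by
    rw [eq_div_iff h0] at e
    exact mul_left_cancel₀ ha (by rw [mul_one]; exact e))
  rw [mul_assoc, ← mul_assoc E, ← (hc (a / c)).eq, mul_assoc, hE.eq, ← mul_assoc,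
    proj_orth ρ ψ hψ y hne, zero_mul]

/-- The cut down projections of subgroups commuting on the range commute. -/
theorem commute_proj_mul {y z : AddChar F G} {E : Module.End ℂ V}
    (hy : ∀ t, Commute (ρ (y t)) E) (hz : ∀ t, Commute (ρ (z t)) E)
    (h : ∀ t u, ρ (y t) * (ρ (z u) * E) = ρ (z u) * (ρ (y t) * E)) (a b : F) :
    Commute (proj ρ ψ y a * E) (proj ρ ψ z b * E) := by
  have h2 : ∀ t u, (ρ (y t) * E) * (ρ (z u) * E) = (ρ (z u) * E) * (ρ (y t) * E) := by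
    intro t u
    calc (ρ (y t) * E) * (ρ (z u) * E) = ρ (y t) * (E * ρ (z u)) * E := by noncomm_ring
      _ = ρ (y t) * (ρ (z u) * E) * E := by rw [← (hz u).eq]
      _ = ρ (z u) * (ρ (y t) * E) * E := by rw [h]
      _ = ρ (z u) * (E * ρ (y t)) * E := by rw [← (hy t).eq]
      _ = (ρ (z u) * E) * (ρ (y t) * E) := by noncomm_ring
  unfold proj
  rw [smul_mul_assoc, smul_mul_assoc, Finset.sum_mul, Finset.sum_mul]
  refine Commute.smul_left (Commute.smul_right (Commute.sum_left _ _ _ fun t _ =>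
    Commute.sum_right _ _ _ fun u _ => ?_) _) _
  rw [smul_mul_assoc, smul_mul_assoc]
  exact Commute.smul_left (Commute.smul_right (h2 t u) _) _

theorem isIdempotentElem_proj_mul (hψ : ψ.IsPrimitive) {y : AddChar F G} {E : Module.End ℂ V}
    (hE : IsIdempotentElem E) (hy : ∀ t, Commute (ρ (y t)) E) (a : F) :
    IsIdempotentElem (proj ρ ψ y a * E) :=
  (isIdempotentElem_proj ρ ψ hψ y a).mul_of_commute (commute_proj_left ρ ψ hy a) hE

/-- Schur. -/
theorem exists_scalar [ρ.IsIrreducible] {X : Module.End ℂ V} (h : ∀ g, Commute (ρ g) X) :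
    ∃ c : ℂ, X = c • 1 := by
  let T : Representation.IntertwiningMap ρ ρ := ⟨X, fun g => (h g).eq.symm⟩
  obtain ⟨c, hc⟩ := (Representation.IsIrreducible.algebraMap_intertwiningMap_bijective_of_isAlgClosed
    (ρ := ρ)).2 T
  refine ⟨c, ?_⟩
  rw [show X = T.toLinearMap from rfl, ← hc, Algebra.algebraMap_eq_smul_one]
  rfl

/-- A vector fixed by the whole group is zero. -/
theorem eq_zero_of_fixed [ρ.IsIrreducible] (hk : 2 ≤ finrank ℂ V) {v : V} (h : ∀ g, ρ g v = v) : v = 0 := by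
  by_contra hv
  let W : Subrepresentation ρ := ⟨Submodule.span ℂ {v}, fun g w hw => by
    obtain ⟨c, rfl⟩ := Submodule.mem_span_singleton.1 hw
    rw [map_smul, h]
    exact Submodule.smul_mem _ _ (Submodule.mem_span_singleton_self v)⟩
  have hW : finrank ℂ W.toSubmodule = 1 := finrank_span_singleton hv
  rcases IsSimpleOrder.eq_bot_or_eq_top W with h' | h'
  · rw [h', show (⊥ : Subrepresentation ρ).toSubmodule = ⊥ from rfl, finrank_bot] at hW
    omega
  · rw [h', show (⊤ : Subrepresentation ρ).toSubmodule = ⊤ from rfl, finrank_top] at hW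
    omega

end Generic

/-- The hypotheses on the representation and the character. -/
structure Ctx {V : Type*} [AddCommGroup V] [Module ℂ V] (ρ : Representation ℂ (Grp F) V)
    (ψ : AddChar F ℂ) : Prop where
  prim : ψ.IsPrimitive
  irr : ρ.IsIrreducible
  two : 2 ≤ finrank ℂ V
  big : 2 < Fintype.card F

noncomputable instance : Fintype (Grp F) := Fintype.ofFinite _

variable {V : Type*} [AddCommGroup V] [Module ℂ V] [FiniteDimensional ℂ V]
  (ρ : Representation ℂ (Grp F) V) (ψ : AddChar F ℂ)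

/-- The projections. -/
noncomputable abbrev P (r : Fin 12) (a : F) : Module.End ℂ V := proj ρ ψ (x r) a

/-- The projection on the fixed vectors of the centre. -/
noncomputable abbrev e0 : Module.End ℂ V := P ρ ψ 11 0

/-- The projections on the fixed vectors of the centre. -/
noncomputable abbrev qp (r : Fin 12) (a : F) : Module.End ℂ V := P ρ ψ r a * e0 ρ ψ

variable {ρ ψ}

theorem P_comm {r s : Fin 12} (h : chkC r s = true) (a b : F) : Commute (P ρ ψ r a) (P ρ ψ s b) :=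
  commute_proj_proj ρ ψ (x_comm r s h) a b

theorem rho_comm_P {r s : Fin 12} (h : chkC r s = true) (t a : F) :
    Commute (ρ (x r t)) (P ρ ψ s a) :=
  commute_rho_proj ρ ψ (fun u => x_comm r s h t u) a

theorem cj_x_P {r s : Fin 12} (h : chkC r s = true) (t a : F) : cj ρ (x r t) (P ρ ψ s a) = P ρ ψ s a :=
  cj_of_commute ρ (rho_comm_P h t a)

theorem cj_tor_P (a d : Fˣ) (r : Fin 12) (b : F) :
    cj ρ (tor a d) (P ρ ψ r b) = P ρ ψ r (b / wt r a d) :=
  cj_proj (wt_ne_zero r a d) (tor_conj r a d) b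

theorem cj_tor_P_zero (a d : Fˣ) (r : Fin 12) : cj ρ (tor a d) (P ρ ψ r 0) = P ρ ψ r 0 := by
  rw [cj_tor_P, zero_div]

theorem cj_nn_P (i : Fin 2) (r s : Fin 12) (h : Chev.tabG2.refl i r = (s : ℕ)) :
    ∃ e : F, e ≠ 0 ∧ ∀ b, cj ρ (nn i) (P ρ ψ r b) = P ρ ψ s (e * b) := by
  obtain ⟨e, he, hx⟩ := nn_conj (F := F) i r s h
  have he0 : e ≠ 0 := by rcases he with rfl | rfl <;> simp
  refine ⟨e⁻¹, inv_ne_zero he0, fun b => ?_⟩
  rw [P, cj_proj he0 hx, div_eq_inv_mul]

theorem refl_vals : Chev.tabG2.refl 0 11 = 11 ∧ Chev.tabG2.refl 0 10 = 6 ∧ Chev.tabG2.refl 0 6 = 10 ∧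
    Chev.tabG2.refl 0 8 = 9 ∧ Chev.tabG2.refl 0 9 = 8 ∧ Chev.tabG2.refl 1 10 = 11 ∧
    Chev.tabG2.refl 1 11 = 10 := by
  decide +kernel

theorem chkC_11 : ∀ r : Fin 12, r = 4 ∨ r = 6 ∨ r = 7 ∨ r = 8 ∨ r = 9 ∨ r = 10 ∨ r = 11 →
    chkC r 11 = true ∧ chkC 11 r = true := by
  decide +kernel

theorem rho_comm_e0 {r : Fin 12} (h : chkC r 11 = true) (t : F) : Commute (ρ (x r t)) (e0 ρ ψ) :=
  rho_comm_P h t 0

theorem cj_x_e0 {r : Fin 12} (h : chkC r 11 = true) (t : F) : cj ρ (x r t) (e0 ρ ψ) = e0 ρ ψ :=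
  cj_of_commute ρ (rho_comm_e0 h t)

theorem eig_e0 : Eig ρ ψ (x 11) 0 (e0 ρ ψ) := rho_mul_proj ρ ψ (x 11) 0

theorem rho11_e0 (t : F) : ρ (x 11 t) * e0 ρ ψ = e0 ρ ψ := by
  rw [eig_e0 t, zero_mul, AddChar.map_zero_eq_one, one_smul]

/-- Two root subgroups commute on the fixed vectors of the centre. -/
theorem mod_comm {r s : Fin 12} (h : (r = 8 ∧ s = 9) ∨ (r = 6 ∧ s = 10) ∨ chkC r s = true) (t u : F) :
    ρ (x r t) * (ρ (x s u) * e0 ρ ψ) = ρ (x s u) * (ρ (x r t) * e0 ρ ψ) := by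
  rw [← mul_assoc, ← mul_assoc, ← map_mul, ← map_mul]
  rcases h with ⟨rfl, rfl⟩ | ⟨rfl, rfl⟩ | h
  · rw [show x 8 t * x 9 u = x 9 u * x 11 (3 * t * u) * x 8 t by rw [← conj8_9, inv_mul_cancel_right],
      mul_assoc (x 9 u), x_comm 11 8 (chkC_11 8 (by simp)).2, ← mul_assoc, map_mul, mul_assoc, rho11_e0]
  · rw [show x 6 t * x 10 u = x 10 u * x 11 (t * u) * x 6 t by rw [← conj6_10, inv_mul_cancel_right],
      mul_assoc (x 10 u), x_comm 11 6 (chkC_11 6 (by simp)).2, ← mul_assoc, map_mul, mul_assoc, rho11_e0]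
  · rw [x_comm r s h]

/-- The roots of the radical outside the centre. -/
def inQ (r : Fin 12) : Prop := r = 6 ∨ r = 8 ∨ r = 9 ∨ r = 10

theorem inQ_pairs {r s : Fin 12} (hr : inQ r) (hs : inQ s) :
    ((r = 8 ∧ s = 9) ∨ (r = 6 ∧ s = 10) ∨ chkC r s = true) ∨
      ((s = 8 ∧ r = 9) ∨ (s = 6 ∧ r = 10) ∨ chkC s r = true) := by
  have h : ∀ r s : Fin 12, (r = 6 ∨ r = 8 ∨ r = 9 ∨ r = 10) → (s = 6 ∨ s = 8 ∨ s = 9 ∨ s = 10) →
      ((r = 8 ∧ s = 9) ∨ (r = 6 ∧ s = 10) ∨ chkC r s = true) ∨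
        ((s = 8 ∧ r = 9) ∨ (s = 6 ∧ r = 10) ∨ chkC s r = true) := by decide +kernel
  exact h r s hr hs

theorem inQ_11 {r : Fin 12} (hr : inQ r) : chkC r 11 = true :=
  (chkC_11 r (by rcases hr with h | h | h | h <;> simp [h])).1

theorem qp_comm {r s : Fin 12} (hr : inQ r) (hs : inQ s) (a b : F) :
    Commute (qp ρ ψ r a) (qp ρ ψ s b) := by
  rcases inQ_pairs hr hs with h | h
  · exact commute_proj_mul (rho_comm_e0 (inQ_11 hr)) (rho_comm_e0 (inQ_11 hs)) (mod_comm h) a b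
  · exact (commute_proj_mul (rho_comm_e0 (inQ_11 hs)) (rho_comm_e0 (inQ_11 hr)) (mod_comm h) b a).symm

namespace Ctx

variable (h : Ctx ρ ψ)
include h

theorem idem_P (r : Fin 12) (a : F) : IsIdempotentElem (P ρ ψ r a) :=
  isIdempotentElem_proj ρ ψ h.prim _ a

theorem idem_e0 : IsIdempotentElem (e0 ρ ψ) := h.idem_P 11 0

theorem idem_qp {r : Fin 12} (hr : inQ r) (a : F) : IsIdempotentElem (qp ρ ψ r a) :=
  isIdempotentElem_proj_mul h.prim h.idem_e0 (rho_comm_e0 (inQ_11 hr)) a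

theorem sum_qp (r : Fin 12) : ∑ a, qp ρ ψ r a = e0 ρ ψ := by
  rw [← Finset.sum_mul, sum_proj ρ ψ h.prim, one_mul]

theorem injective : Function.Injective ρ := by
  haveI := h.irr
  have hF : ∃ a : F, a ≠ 0 ∧ a ≠ 1 := by
    classical
    by_contra hc
    push Not at hc
    have : Fintype.card F ≤ 2 := by
      rw [← Finset.card_univ]
      refine (Finset.card_le_card (t := {0, 1}) fun a _ => ?_).trans Finset.card_le_two
      by_cases ha : a = 0
      · simp [ha]
      · simp [hc a ha]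
    have := h.big
    omega
  rcases (Cfsg.Agent.S1055.result hF).1.eq_bot_or_eq_top_of_normal ρ.ker inferInstance with h1 | h1
  · exact (MonoidHom.ker_eq_bot_iff ρ).1 h1
  · exfalso
    have hid : ∀ g, ρ g = 1 := fun g => h1.ge (Subgroup.mem_top g)
    obtain ⟨v, hv⟩ : ∃ v : V, v ≠ 0 := by
      haveI : Nontrivial V := Module.nontrivial_of_finrank_pos (R := ℂ) (by have := h.two; omega)
      exact exists_ne 0
    exact hv (eq_zero_of_fixed h.two fun g => by rw [hid g]; rfl)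

end Ctx

end CfsgLib.GTwoMinDeg
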