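import Cfsg.Agent.Lib.GTwoMinDeg.ThreeGraph

/-!
The weights of a representation of `G₂(F)` in characteristic three.
-/

set_option autoImplicit false
set_option linter.unusedSectionVars false

namespace CfsgLib.GTwoMinDeg

open Module Cfsg.Lie CfsgLib.Chev

variable {F : Type*} [Field F] [Fintype F] [CharP F 3] {V : Type*} [AddCommGroup V] [Module ℂ V]
  [FiniteDimensional ℂ V] {ρ : Representation ℂ (Grp F) V} {ψ : AddChar F ℂ}

theorem three_zero : (3 : F) = 0 := by exact_mod_cast CharP.cast_eq_zero F 3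

theorem neg_two : (-2 : F) = 1 := by linear_combination (-1 : F) * (three_zero (F := F))

theorem assoc4 {R : Type*} [Semigroup R] (a b c d : R) : a * (b * (c * d)) = a * (b * c) * d := by
  simp only [mul_assoc]

theorem sum_pair_zero (f : F → F → ℕ) {c : ℕ} (hf : ∀ a b, a ≠ 0 ∨ b ≠ 0 → f a b = c) :
    ∑ a, ∑ b, f a b = f 0 0 + (Fintype.card F ^ 2 - 1) * c := by
  classical
  rw [← Fintype.sum_prod_type' f, ← Finset.add_sum_erase _ _ (Finset.mem_univ ((0 : F), (0 : F))),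
    Finset.sum_congr rfl fun p hp => show f p.1 p.2 = c from hf _ _ (by
      by_contra hne
      push Not at hne
      exact Finset.ne_of_mem_erase hp (Prod.ext hne.1 hne.2)),
    Finset.sum_const, Finset.card_erase_of_mem (Finset.mem_univ _), Finset.card_univ, Fintype.card_prod,
    smul_eq_mul, sq]

theorem chk_three : chkC (8 : Fin 12) 10 = true ∧ chkC (8 : Fin 12) 11 = true ∧ chkC (9 : Fin 12) 10 = true ∧
    chkC (9 : Fin 12) 11 = true ∧ chkC (10 : Fin 12) 11 = true ∧ chkC (6 : Fin 12) 8 = true ∧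
    chkC (6 : Fin 12) 9 = true ∧ chkC (6 : Fin 12) 11 = true ∧ chkC (7 : Fin 12) 10 = true ∧
    chkC (7 : Fin 12) 11 = true ∧ chkC (4 : Fin 12) 6 = true ∧ chkC (4 : Fin 12) 11 = true := by
  decide +kernel

theorem x89_comm (t u : F) : x 8 t * x 9 u = x 9 u * x 8 t := by
  have h := conj8_9 (F := F) t u
  rw [three_zero, zero_mul, zero_mul, AddChar.map_zero_eq_one, mul_one, mul_inv_eq_iff_eq_mul] at h
  exact h

theorem x79_comm (t u : F) : x 7 t * x 9 u = x 9 u * x 7 t := by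
  have h := conj7_9 (F := F) t u
  rw [three_zero, zero_mul, zero_mul, AddChar.map_zero_eq_one, mul_one, mul_inv_eq_iff_eq_mul] at h
  exact h

theorem x48_comm (t u : F) : x 4 t * x 8 u = x 8 u * x 4 t := by
  have h := conj4_8 (F := F) t u
  rw [three_zero, neg_zero, zero_mul, zero_mul, AddChar.map_zero_eq_one, mul_one, mul_inv_eq_iff_eq_mul] at h
  exact h

theorem c89 (a b : F) : Commute (P ρ ψ 8 b) (P ρ ψ 9 a) := commute_proj_proj ρ ψ (fun t u => x89_comm t u) b a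

/-- The joint projection of the centres of the two radicals. -/
noncomputable abbrev A3 (ρ : Representation ℂ (Grp F) V) (ψ : AddChar F ℂ) (z a b : F) : Module.End ℂ V :=
  P ρ ψ 8 b * (P ρ ψ 9 a * P ρ ψ 11 z)

/-- Its refinement by the root ten. -/
noncomputable def N3 (ρ : Representation ℂ (Grp F) V) (ψ : AddChar F ℂ) (z a b y : F) : ℕ :=
  dm (P ρ ψ 10 y * A3 ρ ψ z a b)

theorem comm10A (z a b y : F) : Commute (P ρ ψ 10 y) (A3 ρ ψ z a b) :=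
  ((P_comm (ρ := ρ) (ψ := ψ) chk_three.1 b y).symm).mul_right
    ((P_comm (ρ := ρ) (ψ := ψ) chk_three.2.2.1 a y).symm.mul_right (P_comm (ρ := ρ) (ψ := ψ) chk_three.2.2.2.2.1 y z))

/-- The multiplicity of the weights trivial on the middle layer. -/
noncomputable def nzero (ρ : Representation ℂ (Grp F) V) (ψ : AddChar F ℂ) : ℕ := N3 ρ ψ 1 0 0 0

/-- The multiplicity of the weights nontrivial on the middle layer. -/
noncomputable def none' (ρ : Representation ℂ (Grp F) V) (ψ : AddChar F ℂ) : ℕ := N3 ρ ψ 1 1 0 0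

namespace Ctx

variable (h : Ctx ρ ψ)
include h

theorem idem9_11 (a z : F) : IsIdempotentElem (P ρ ψ 9 a * P ρ ψ 11 z) :=
  (h.idem_P 9 a).mul_of_commute (P_comm (ρ := ρ) (ψ := ψ) chk_three.2.2.2.1 a z) (h.idem_P 11 z)

theorem idemA (z a b : F) : IsIdempotentElem (A3 ρ ψ z a b) :=
  (h.idem_P 8 b).mul_of_commute ((c89 (ρ := ρ) (ψ := ψ) a b).mul_right (P_comm (ρ := ρ) (ψ := ψ) chk_three.2.1 b z)) (h.idem9_11 a z)

theorem idem10A (z a b y : F) : IsIdempotentElem (P ρ ψ 10 y * A3 ρ ψ z a b) :=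
  (h.idem_P 10 y).mul_of_commute (comm10A z a b y) (h.idemA z a b)

theorem N3_shift {z : F} (hz : z ≠ 0) (a b y : F) : N3 ρ ψ z a b y = N3 ρ ψ z a b 0 := by
  rw [N3, N3, ← dm_cj ρ (x 6 (y / z)) (h.idem10A z a b y)]
  congr 1
  simp only [A3, cj_mul, cj_x_P chk_three.2.2.2.2.2.1, cj_x_P chk_three.2.2.2.2.2.2.1,
    cj_x_P chk_three.2.2.2.2.2.2.2.1]
  rw [cj_proj_mul (ρ := ρ) (ψ := ψ) (x := x 10) (x' := x 10) (d := y) (fun t => ?_), sub_self]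
  have hE : Eig ρ ψ (x 11) z (P ρ ψ 8 b * (P ρ ψ 9 a * P ρ ψ 11 z)) :=
    ((rho_mul_proj ρ ψ (x 11) z).mul_left fun t => rho_comm_P (chkC_11 9 (by simp)).2 t a).mul_left
      fun t => rho_comm_P (chkC_11 8 (by simp)).2 t b
  rw [conj6_10, map_mul, mul_assoc, hE, mul_smul_comm]
  congr 2
  field_simp

theorem N3_seven (z a b s y : F) : N3 ρ ψ z a (b - a * s) y = N3 ρ ψ z a b y := by
  rw [N3, N3, ← dm_cj ρ (x 7 s) (h.idem10A z a b y)]
  congr 1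
  have e9 : cj ρ (x 7 s) (P ρ ψ 9 a) = P ρ ψ 9 a :=
    cj_of_commute ρ (commute_rho_proj ρ ψ (fun u => x79_comm s u) a)
  simp only [A3, cj_mul, e9, cj_x_P chk_three.2.2.2.2.2.2.2.2.1, cj_x_P chk_three.2.2.2.2.2.2.2.2.2.1]
  congr 1
  symm
  refine cj_proj_mul (fun t => ?_) b
  have hE : Eig ρ ψ (x 9) a (P ρ ψ 9 a * P ρ ψ 11 z) := (rho_mul_proj ρ ψ (x 9) a).mul_right _
  rw [conj7_8, three_zero, neg_two, neg_zero]
  simp only [zero_mul, AddChar.map_zero_eq_one, mul_one, one_mul]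
  rw [map_mul, mul_assoc, hE, mul_smul_comm]
  congr 2
  ring

theorem dmA_eq (z a b : F) : dm (A3 ρ ψ z a b) = ∑ y, N3 ρ ψ z a b y :=
  dm_split (ρ := ρ) (y := x 10) h.prim (h.idemA z a b) fun y => comm10A z a b y

theorem dmA_ne {z : F} (hz : z ≠ 0) (a b : F) : dm (A3 ρ ψ z a b) = Fintype.card F * N3 ρ ψ z a b 0 := by
  rw [h.dmA_eq, Finset.sum_congr rfl fun y _ => h.N3_shift hz a b y, Finset.sum_const, Finset.card_univ,
    smul_eq_mul]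

theorem N3_tor {z : F} (c d : Fˣ) (a b : F) :
    N3 ρ ψ (z / ((c : F) * d)) (a / c) (b / d) 0 = N3 ρ ψ z a b 0 := by
  rw [N3, N3, ← dm_cj ρ (tor c d) (h.idem10A z a b 0)]
  simp only [A3, cj_mul, cj_tor_P, wt11, wt9, wt8, zero_div]

theorem N3_zero {z : F} (hz : z ≠ 0) : N3 ρ ψ z 0 0 0 = nzero ρ ψ := by
  rw [nzero, ← h.N3_tor (z := z) (Units.mk0 z hz) 1 0 0]
  simp [hz]

theorem N3_ne {z : F} (hz : z ≠ 0) {a b : F} (hab : a ≠ 0 ∨ b ≠ 0) : N3 ρ ψ z a b 0 = none' ρ ψ := by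
  have key : ∀ {z a : F}, z ≠ 0 → a ≠ 0 → ∀ b, N3 ρ ψ z a b 0 = none' ρ ψ := by
    intro z a hz ha b
    rw [← h.N3_seven z a b (b / a) 0, mul_div_cancel₀ b ha, sub_self, none',
      ← h.N3_tor (z := z) (Units.mk0 a ha) (Units.mk0 (z / a) (div_ne_zero hz ha)) a 0]
    simp only [Units.val_mk0, zero_div, div_self ha]
    rw [show a * (z / a) = z by field_simp, div_self hz]
  by_cases ha : a = 0
  · subst ha
    have hb : b ≠ 0 := hab.resolve_left (by simp)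
    obtain ⟨e₁, h1, k1⟩ := cj_nn_P (ρ := ρ) (ψ := ψ) 0 11 11 refl_vals.1
    obtain ⟨e₂, h2, k2⟩ := cj_nn_P (ρ := ρ) (ψ := ψ) 0 8 9 refl_vals.2.2.2.1
    obtain ⟨e₃, -, k3⟩ := cj_nn_P (ρ := ρ) (ψ := ψ) 0 9 8 refl_vals.2.2.2.2.1
    have e : dm (A3 ρ ψ z 0 b) = dm (A3 ρ ψ (e₁ * z) (e₂ * b) 0) := by
      rw [← dm_cj ρ (nn 0) (h.idemA z 0 b)]
      simp only [A3, cj_mul, k1, k2, k3, mul_zero]
      rw [(c89 (ρ := ρ) (ψ := ψ) (e₂ * b) 0).left_comm]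
    rw [h.dmA_ne hz, h.dmA_ne (mul_ne_zero h1 hz), key (mul_ne_zero h1 hz) (mul_ne_zero h2 hb)] at e
    exact Nat.eq_of_mul_eq_mul_left Fintype.card_pos e
  · exact key hz ha b

theorem dm_P11_three {z : F} (hz : z ≠ 0) :
    dm (P ρ ψ 11 z) = Fintype.card F * (nzero ρ ψ + (Fintype.card F ^ 2 - 1) * none' ρ ψ) := by
  rw [dm_split (ρ := ρ) (y := x 9) h.prim (h.idem_P 11 z) fun a => P_comm (ρ := ρ) (ψ := ψ) chk_three.2.2.2.1 a z,
    Finset.sum_congr rfl fun a _ => dm_split (ρ := ρ) (y := x 8) h.prim (h.idem9_11 a z)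
      fun b => (c89 (ρ := ρ) (ψ := ψ) a b).mul_right (P_comm (ρ := ρ) (ψ := ψ) chk_three.2.1 b z),
    sum_pair_zero (fun a b => dm (A3 ρ ψ z a b)) (c := Fintype.card F * none' ρ ψ)
      (fun a b hab => by rw [h.dmA_ne hz, h.N3_ne hz hab]), h.dmA_ne hz, h.N3_zero hz]
  ring

theorem finrank_three :
    finrank ℂ V = dm (e0 ρ ψ) +
      (Fintype.card F - 1) * (Fintype.card F * (nzero ρ ψ + (Fintype.card F ^ 2 - 1) * none' ρ ψ)) := by
  classical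
  rw [← dm_one, dm_sum (p := fun a => P ρ ψ 11 a) Finset.univ IsIdempotentElem.one (fun a _ => h.idem_P 11 a)
    (sum_proj ρ ψ h.prim (x 11)), ← Finset.add_sum_erase _ _ (Finset.mem_univ (0 : F)),
    Finset.sum_congr rfl fun a ha => h.dm_P11_three (Finset.ne_of_mem_erase ha), Finset.sum_const,
    Finset.card_erase_of_mem (Finset.mem_univ _), Finset.card_univ, smul_eq_mul]

theorem mult_pos : 0 < nzero ρ ψ + (Fintype.card F ^ 2 - 1) * none' ρ ψ := by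
  obtain ⟨z, hz, hne⟩ := h.exists_P11
  have := dm_pos.2 hne
  rw [h.dm_P11_three hz] at this
  exact Nat.pos_of_ne_zero fun e => by simp [e] at this

theorem dm10_11 {z : F} (hz : z ≠ 0) (y : F) :
    dm (P ρ ψ 10 y * P ρ ψ 11 z) = nzero ρ ψ + (Fintype.card F ^ 2 - 1) * none' ρ ψ := by
  have hid : IsIdempotentElem (P ρ ψ 10 y * P ρ ψ 11 z) :=
    (h.idem_P 10 y).mul_of_commute (P_comm (ρ := ρ) (ψ := ψ) chk_three.2.2.2.2.1 y z) (h.idem_P 11 z)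
  have hc9 : ∀ a, Commute (P ρ ψ 9 a) (P ρ ψ 10 y * P ρ ψ 11 z) := fun a =>
    (P_comm (ρ := ρ) (ψ := ψ) chk_three.2.2.1 a y).mul_right (P_comm (ρ := ρ) (ψ := ψ) chk_three.2.2.2.1 a z)
  have hc8 : ∀ a b, Commute (P ρ ψ 8 b) (P ρ ψ 9 a * (P ρ ψ 10 y * P ρ ψ 11 z)) := fun a b =>
    (c89 (ρ := ρ) (ψ := ψ) a b).mul_right ((P_comm (ρ := ρ) (ψ := ψ) chk_three.1 b y).mul_right (P_comm (ρ := ρ) (ψ := ψ) chk_three.2.1 b z))
  rw [dm_split (ρ := ρ) (y := x 9) h.prim hid hc9,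
    Finset.sum_congr rfl fun a _ => dm_split (ρ := ρ) (y := x 8) h.prim
      ((h.idem_P 9 a).mul_of_commute (hc9 a) hid) (hc8 a),
    sum_pair_zero (c := none' ρ ψ) (fun a b => dm (P ρ ψ 8 b * (P ρ ψ 9 a * (P ρ ψ 10 y * P ρ ψ 11 z))))
      (fun a b hab => ?_)]
  · congr 1
    rw [(P_comm (ρ := ρ) (ψ := ψ) chk_three.2.2.1 0 y).left_comm, (P_comm (ρ := ρ) (ψ := ψ) chk_three.1 0 y).left_comm]
    exact (h.N3_shift hz 0 0 y).trans (h.N3_zero hz)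
  · rw [(P_comm (ρ := ρ) (ψ := ψ) chk_three.2.2.1 a y).left_comm, (P_comm (ρ := ρ) (ψ := ψ) chk_three.1 b y).left_comm]
    exact (h.N3_shift hz a b y).trans (h.N3_ne hz hab)

theorem dm_qp10_three {y : F} (hy : y ≠ 0) :
    dm (qp ρ ψ 10 y) = nzero ρ ψ + (Fintype.card F ^ 2 - 1) * none' ρ ψ := by
  classical
  obtain ⟨e, he, k⟩ := cj_nn_P (ρ := ρ) (ψ := ψ) 1 10 11 refl_vals.2.2.2.2.2.1
  have h1 := dm_split (ρ := ρ) (y := x 11) h.prim (h.idem_P 10 y)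
    fun a => (P_comm (ρ := ρ) (ψ := ψ) chk_three.2.2.2.2.1 y a).symm
  rw [← dm_cj ρ (nn 1) (h.idem_P 10 y), k, h.dm_P11_three (mul_ne_zero he hy),
    ← Finset.add_sum_erase _ _ (Finset.mem_univ (0 : F)),
    Finset.sum_congr rfl fun a ha => show dm (proj ρ ψ (x 11) a * P ρ ψ 10 y) =
        nzero ρ ψ + (Fintype.card F ^ 2 - 1) * none' ρ ψ by
      rw [show proj ρ ψ (x 11) a = P ρ ψ 11 a from rfl, (P_comm (ρ := ρ) (ψ := ψ) chk_three.2.2.2.2.1 y a).symm.eq]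
      exact h.dm10_11 (Finset.ne_of_mem_erase ha) y,
    Finset.sum_const, Finset.card_erase_of_mem (Finset.mem_univ _), Finset.card_univ, smul_eq_mul,
    show proj ρ ψ (x 11) 0 = P ρ ψ 11 0 from rfl, ← (P_comm (ρ := ρ) (ψ := ψ) chk_three.2.2.2.2.1 y 0).eq] at h1
  show dm (P ρ ψ 10 y * P ρ ψ 11 0) = _
  obtain ⟨r, hr⟩ : ∃ r, Fintype.card F = r + 1 := ⟨Fintype.card F - 1, by have := h.big; omega⟩
  rw [hr, Nat.add_sub_cancel] at h1
  rw [hr]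
  linarith

/-! ### Consequences of the graph endomorphism -/

theorem ten_eight_nine (x y z : F) :
    Commute (P ρ ψ 10 x) (P ρ ψ 8 y) ∧ Commute (P ρ ψ 10 x) (P ρ ψ 9 y) ∧ Commute (P ρ ψ 11 z) (P ρ ψ 9 y) :=
  ⟨(P_comm (ρ := ρ) (ψ := ψ) chk_three.1 y x).symm, (P_comm (ρ := ρ) (ψ := ψ) chk_three.2.2.1 y x).symm, (P_comm (ρ := ρ) (ψ := ψ) chk_three.2.2.2.1 y z).symm⟩

theorem twisted_N3 (hψ : ∀ a, ψ (a ^ 3) = ψ a) (z a b y : F) :
    N3 (twisted ρ) ψ z a b y = N3 ρ ψ (a ^ 3) z y (b ^ 3) := by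
  unfold N3
  simp only [A3]
  rw [proj_twisted_one (ρ := ρ) (ψ := ψ) (r := 10) (s := 8) ⟨sroot_vals.2.2.2.1.1, sroot_vals.2.2.2.1.2⟩,
    proj_twisted_three (ρ := ρ) hψ (r := 8) (s := 10) ⟨sroot_vals.2.2.1.1, sroot_vals.2.2.1.2⟩,
    proj_twisted_three (ρ := ρ) hψ (r := 9) (s := 11) ⟨sroot_vals.2.1.1, sroot_vals.2.1.2⟩,
    proj_twisted_one (ρ := ρ) (ψ := ψ) (r := 11) (s := 9) ⟨sroot_vals.1.1, sroot_vals.1.2⟩]
  rw [(P_comm (ρ := ρ) (ψ := ψ) chk_three.2.2.2.1 z (a ^ 3)).symm.eq, (P_comm (ρ := ρ) (ψ := ψ) chk_three.1 y (b ^ 3)).left_comm]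

theorem twisted_none (hψ : ∀ a, ψ (a ^ 3) = ψ a) : none' (twisted ρ) ψ = none' ρ ψ := by
  rw [none', h.twisted_N3 hψ, zero_pow three_ne_zero, one_pow]
  rfl

/-- The weights with one coordinate in the middle layer and trivial on the outer root. -/
theorem N3_mid_zero (hψ : ∀ a, ψ (a ^ 3) = ψ a) {a : F} (ha : a ≠ 0) :
    N3 ρ ψ 0 a 0 0 = nzero (twisted ρ) ψ := by
  have h1 := h.twisted_N3 hψ a 0 0 0
  rw [zero_pow three_ne_zero] at h1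
  rw [← h1, h.twist.N3_zero ha]

/-- The weights with one coordinate in the middle layer and nontrivial on the outer root. -/
theorem N3_mid_ne (hψ : ∀ a, ψ (a ^ 3) = ψ a) {a y : F} (ha : a ≠ 0) (hy : y ≠ 0) :
    N3 ρ ψ 0 a 0 y = none' ρ ψ := by
  obtain ⟨b, rfl⟩ := cube_bijective.2 y
  have hb : b ≠ 0 := fun e => hy (by subst e; exact zero_pow three_ne_zero)
  have h1 := h.twisted_N3 hψ a 0 b 0
  rw [zero_pow three_ne_zero] at h1
  show N3 ρ ψ 0 a 0 (b ^ 3) = _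
  rw [← h1, h.twist.N3_ne ha (Or.inr hb), h.twisted_none hψ]

theorem twisted_twisted_zero (hψ : ∀ a, ψ (a ^ 3) = ψ a) : nzero (twisted (twisted ρ)) ψ = nzero ρ ψ := by
  rw [nzero, h.twist.twisted_N3 hψ, zero_pow three_ne_zero, h.twisted_N3 hψ, one_pow, zero_pow three_ne_zero]
  rfl

/-! ### The weights on the fixed vectors of the centre -/

theorem N3_eq_sum (a b y : F) : N3 ρ ψ 0 a b y = dm (qp ρ ψ 8 b * (qp ρ ψ 9 a * qp ρ ψ 10 y)) := by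
  unfold N3
  congr 1
  rw [h.qp_mul b (h.good_mul inQ9 a (h.good_qp inQ10 y)), h.qp_mul a (h.good_qp inQ10 y)]
  rw [(P_comm (ρ := ρ) (ψ := ψ) chk_three.1 b y).symm.left_comm, (P_comm (ρ := ρ) (ψ := ψ) chk_three.2.2.1 a y).symm.left_comm]

theorem N3_eq_Phi (a b y : F) : N3 ρ ψ 0 a b y = ∑ w, dm (Phi ρ ψ y a b w) := by
  rw [h.N3_eq_sum, h.good_split inQ6 (h.good_mul inQ8 b (h.good_mul inQ9 a (h.good_qp inQ10 y)))]
  rfl

/-- The stabilizer of a weight in the middle layer shifts the outer coordinates. -/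
theorem Phi_four (s a u y : F) :
    dm (Phi ρ ψ (y - (s * a + s ^ 3 * u)) a 0 u) = dm (Phi ρ ψ y a 0 u) := by
  set E := qp ρ ψ 6 u * (qp ρ ψ 8 0 * qp ρ ψ 9 a) with hE
  have gE : Good ρ ψ E := h.good_mul inQ6 u (h.good_mul inQ8 0 (h.good_qp inQ9 a))
  have hPhi : ∀ y, Phi ρ ψ y a 0 u = qp ρ ψ 10 y * E := fun y => by
    rw [(gE.comm 10 inQ10 y).eq, hE]
    unfold Phi
    exact assoc4 _ _ _ _
  have a6 : qp ρ ψ 6 u * E = E := by rw [hE, ← mul_assoc, (h.idem_qp inQ6 u).eq]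
  have g89 : Good ρ ψ (qp ρ ψ 8 0 * qp ρ ψ 9 a) := h.good_mul inQ8 0 (h.good_qp inQ9 a)
  have a8' : qp ρ ψ 8 0 * (qp ρ ψ 8 0 * qp ρ ψ 9 a) = qp ρ ψ 8 0 * qp ρ ψ 9 a := by
    rw [← mul_assoc, (h.idem_qp inQ8 0).eq]
  have a8 : qp ρ ψ 8 0 * E = E := by rw [hE, (qp_comm (ρ := ρ) (ψ := ψ) inQ8 inQ6 0 u).left_comm, a8']
  have a9 : qp ρ ψ 9 a * E = E := by
    rw [hE, (qp_comm (ρ := ρ) (ψ := ψ) inQ9 inQ6 a u).left_comm, (qp_comm (ρ := ρ) (ψ := ψ) inQ9 inQ8 a 0).left_comm, (h.idem_qp inQ9 a).eq]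
  have e4 : cj ρ (x 4 s) (qp ρ ψ 8 0 * qp ρ ψ 9 a) = qp ρ ψ 8 0 * qp ρ ψ 9 a := by
    have e8 : cj ρ (x 4 s) (qp ρ ψ 8 0) = qp ρ ψ 8 0 := by
      rw [cj_mul, cj_x_e0 (chkC_11 4 (by simp)).1,
        cj_of_commute ρ (commute_rho_proj ρ ψ (fun t => x48_comm s t) 0)]
    rw [cj_mul ρ (x 4 s) (qp ρ ψ 8 0), e8, cj_mul, cj_x_e0 (chkC_11 4 (by simp)).1]
    have e9 : cj ρ (x 4 s) (P ρ ψ 9 a) * qp ρ ψ 8 0 = P ρ ψ 9 (a - 0) * qp ρ ψ 8 0 := by
      refine cj_proj_mul (fun t => ?_) a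
      rw [conj4_9, three_zero, neg_two, neg_zero]
      simp only [zero_mul, AddChar.map_zero_eq_one, mul_one, one_mul]
      rw [map_mul, mul_assoc, (rho_mul_proj ρ ψ (x 8) 0).mul_right (e0 ρ ψ), mul_smul_comm, zero_mul]
      simp only [zero_mul, AddChar.map_zero_eq_one]
    have hc : ∀ X, Commute (qp ρ ψ 8 0) X → qp ρ ψ 8 0 * (X * e0 ρ ψ) = X * qp ρ ψ 8 0 := fun X hX => by
      rw [← mul_assoc, hX.eq, mul_assoc, h.good_right (h.good_qp inQ8 0)]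
    have hcom : Commute (qp ρ ψ 8 0) (cj ρ (x 4 s) (P ρ ψ 9 a)) := by
      rw [← e8]
      unfold cj
      have h0 := h.comm_P inQ9 a (h.good_qp inQ8 0)
      show ρ (x 4 s) * qp ρ ψ 8 0 * ρ (x 4 s)⁻¹ * (ρ (x 4 s) * P ρ ψ 9 a * ρ (x 4 s)⁻¹) =
        ρ (x 4 s) * P ρ ψ 9 a * ρ (x 4 s)⁻¹ * (ρ (x 4 s) * qp ρ ψ 8 0 * ρ (x 4 s)⁻¹)
      have := cj_mul ρ (x 4 s) (qp ρ ψ 8 0) (P ρ ψ 9 a)
      rw [← h0.eq, cj_mul] at this
      exact this.symm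
    rw [hc _ hcom, e9, sub_zero, ← (h.comm_P inQ9 a (h.good_qp inQ8 0)).symm.eq]
    rw [show qp ρ ψ 9 a = P ρ ψ 9 a * e0 ρ ψ from rfl, hc _ (h.comm_P inQ9 a (h.good_qp inQ8 0)).symm,
      (h.comm_P inQ9 a (h.good_qp inQ8 0)).eq]
  have eE : cj ρ (x 4 s) E = E := by
    rw [hE, cj_mul ρ (x 4 s) (qp ρ ψ 6 u), e4, cj_mul, cj_x_e0 (chkC_11 4 (by simp)).1,
      cj_x_P chk_three.2.2.2.2.2.2.2.2.2.2.1]
  rw [← dm_cj ρ (x 4 s) (h.good_Phi y a 0 u).idem, hPhi, hPhi]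
  congr 1
  rw [cj_mul ρ (x 4 s) (qp ρ ψ 10 y), eE, cj_mul, cj_x_e0 (chkC_11 4 (by simp)).1]
  simp only [qp, mul_assoc, gE.left]
  symm
  refine cj_proj_mul (fun t => ?_) y
  have k9 := h.eig_of_absorb gE a9
  have k8 := h.eig_of_absorb gE a8
  have k6 := h.eig_of_absorb gE a6
  have k11 : ∀ r, ρ (x 11 r) * E = E := fun r => by rw [← gE.left, ← mul_assoc, rho11_e0]
  rw [conj4_10]
  simp only [map_mul, mul_assoc, k11, k6 _, mul_smul_comm, k8 _, k9 _, smul_smul, zero_mul,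
    AddChar.map_zero_eq_one, mul_one, one_mul]
  rw [← AddChar.map_add_eq_mul]
  congr 2
  ring

end Ctx

end CfsgLib.GTwoMinDeg
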