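import Cfsg.Agent.Lib.GTwoMinDeg.CaseOne
import Cfsg.Agent.Lib.Chev.TwistG2
import Cfsg.Agent.Lib.Blocks.Inflate

/-!
The graph endomorphism of `G₂(F)` in characteristic three and the representation composed with it.
-/

set_option autoImplicit false
set_option linter.unusedSectionVars false
set_option maxRecDepth 100000

namespace CfsgLib.GTwoMinDeg

open Module Cfsg.Lie CfsgLib.Chev

variable {F : Type*} [Field F] [Fintype F] [CharP F 3] {V : Type*} [AddCommGroup V] [Module ℂ V]
  [FiniteDimensional ℂ V] {ρ : Representation ℂ (Grp F) V} {ψ : AddChar F ℂ}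

/-- The graph endomorphism. -/
noncomputable def sig : Grp F →* Grp F := (endoG2 (RingHom.id F)).hom

theorem sig_injective : Function.Injective (sig (F := F)) := (endoG2 (RingHom.id F)).inj

theorem sig_bijective : Function.Bijective (sig (F := F)) :=
  Finite.injective_iff_bijective.1 sig_injective

theorem sig_vals : ∀ r : Fin 12, twistG2.rt r < 12 ∧ twistG2.ep r = 1 := by
  decide +kernel

/-- The image of a root. -/
noncomputable def sroot (r : Fin 12) : Fin 12 := ⟨twistG2.rt r, (sig_vals r).1⟩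

theorem sig_x (r : Fin 12) (t : F) : sig (x r t) = x (sroot r) (t ^ twistG2.dg r) := by
  refine Subtype.ext ?_
  rw [sig, (endoG2 (RingHom.id F)).map_X r (lt_of_lt_of_eq r.2 CfsgLib.ClassSquare.GTwo.tab_facts.1.symm) t
    (x r t) rfl]
  show X chevG2 (twistG2.rt r) ((twistG2.ep r : F) * (RingHom.id F) t ^ twistG2.dg r) = _
  rw [(sig_vals r).2, Int.cast_one, one_mul]
  rfl

/-- The representation composed with the graph endomorphism. -/
noncomputable def twisted (ρ : Representation ℂ (Grp F) V) : Representation ℂ (Grp F) V := ρ.comp sig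

theorem cube_bijective : Function.Bijective fun a : F => a ^ 3 := by
  haveI : Fact (Nat.Prime 3) := ⟨Nat.prime_three⟩
  exact Finite.injective_iff_bijective.1 fun a b h => frobenius_inj F 3 h

theorem proj_twisted_one {r s : Fin 12} (hs : sroot r = s ∧ twistG2.dg r = 1) (a : F) :
    P (twisted ρ) ψ r a = P ρ ψ s a := by
  unfold P proj
  congr 1
  refine Finset.sum_congr rfl fun t _ => ?_
  show ψ _ • ρ (sig (x r t)) = _
  rw [sig_x, hs.1, hs.2, pow_one]

theorem proj_twisted_three (hψ : ∀ a, ψ (a ^ 3) = ψ a) {r s : Fin 12}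
    (hs : sroot r = s ∧ twistG2.dg r = 3) (a : F) :
    P (twisted ρ) ψ r a = P ρ ψ s (a ^ 3) := by
  unfold P proj
  congr 1
  refine Fintype.sum_bijective _ cube_bijective _ _ fun t => ?_
  show ψ _ • ρ (sig (x r t)) = _
  rw [sig_x, hs.1, hs.2, ← hψ (-(a * t))]
  congr 2
  ring

theorem sroot_vals :
    (sroot 11 = 9 ∧ twistG2.dg (11 : Fin 12) = 1) ∧ (sroot 9 = 11 ∧ twistG2.dg (9 : Fin 12) = 3) ∧
    (sroot 8 = 10 ∧ twistG2.dg (8 : Fin 12) = 3) ∧ (sroot 10 = 8 ∧ twistG2.dg (10 : Fin 12) = 1) ∧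
    (sroot 6 = 7 ∧ twistG2.dg (6 : Fin 12) = 1) ∧ (sroot 7 = 6 ∧ twistG2.dg (7 : Fin 12) = 3) := by
  decide +kernel

theorem Ctx.twist (h : Ctx ρ ψ) : Ctx (twisted ρ) ψ :=
  ⟨h.prim, (CfsgLib.Blocks.isIrreducible_comp_of_surjective ρ sig sig_bijective.2).2 h.irr, h.two, h.big⟩

/-- A primitive character invariant under cubing. -/
theorem exists_cube_char : ∃ ψ : AddChar F ℂ, ψ.IsPrimitive ∧ ∀ a, ψ (a ^ 3) = ψ a := by
  haveI : Fact (Nat.Prime 3) := ⟨Nat.prime_three⟩
  letI : Algebra (ZMod 3) F := ZMod.algebra _ _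
  obtain ⟨χ, hχ⟩ : ∃ χ : AddChar (ZMod 3) ℂ, χ ≠ 1 := by
    refine ⟨ZMod.stdAddChar (N := 3), fun h => ?_⟩
    have h1 := ZMod.injective_stdAddChar (N := 3) (a₁ := 0) (a₂ := 1) (by rw [h]; simp)
    exact zero_ne_one h1
  refine ⟨χ.compAddMonoidHom (Algebra.trace (ZMod 3) F).toAddMonoidHom, ?_, fun a => ?_⟩
  · refine AddChar.IsPrimitive.of_ne_one fun h => hχ (DFunLike.ext _ _ fun c => ?_)
    obtain ⟨a, ha⟩ := Algebra.trace_surjective (ZMod 3) F c
    have := DFunLike.congr_fun h a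
    rw [AddChar.compAddMonoidHom_apply, AddChar.one_apply] at this
    rw [← ha, AddChar.one_apply]
    exact this
  · simp only [AddChar.compAddMonoidHom_apply]
    congr 1
    have h1 := Algebra.trace_eq_of_algEquiv (FiniteField.frobeniusAlgEquivOfAlgebraic (ZMod 3) F) a
    simpa [ZMod.card] using h1

end CfsgLib.GTwoMinDeg
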